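import Cfsg.Agent.Characters.Galois
import Cfsg.Agent.Characters.Core
import Cfsg.Agent.J3Type.CharTools
import Cfsg.Agent.Blocks.Central
set_option linter.all false

/-!
# Lower bounds for the norm of a character from its degree modulo primes

* `exists_mult`: multiplicities of the eigenvalues of an element of order dividing `p`.
* `le_sum_normSq`: `∑_{0<k<p} |χ(x^k)|² ≥ r (p - r)`, `r = χ(1) mod p`.
* `card_mul_le`: `|G| ∑_{0<k<p} F(x^k) ≤ n ∑_{o(g) = p} F(g)` for a nonnegative class function `F`, `n` a bound for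
  the order of the normaliser of `⟨x⟩`.
-/

set_option autoImplicit false

namespace Cfsg.Agent.H729.Norm

open Cfsg Finset
open scoped ComplexConjugate

variable {G : Type*} [Group G]

theorem sum_pow_root {p : ℕ} {w : ℂ} (hw : w ^ p = 1) :
    ∑ k ∈ range p, w ^ k = if w = 1 then (p : ℂ) else 0 := by
  split_ifs with h
  · rw [h]; simp
  · have h1 := mul_geom_sum w p
    rw [hw, sub_self] at h1
    rcases mul_eq_zero.1 h1 with h2 | h2
    · exact absurd (sub_eq_zero.1 h2) h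
    · exact h2

/-- Multiplicities of the eigenvalues of `x`, `x ^ p = 1`. -/
theorem exists_mult {χ : G → ℂ} (hχ : IsCharacter G χ) {x : G} {p : ℕ} (hp : p ≠ 0) (hx : x ^ p = 1) :
    ∃ m : ℕ → ℕ, (∑ j ∈ range p, (m j : ℂ) = χ 1) ∧
      (∑ k ∈ range p, χ (x ^ k) = (p : ℂ) * (m 0 : ℂ)) ∧
      ∑ k ∈ range p, (χ (x ^ k) * conj (χ (x ^ k))) = (p : ℂ) * ∑ j ∈ range p, (m j : ℂ) ^ 2 := by
  obtain ⟨n, ρ, rfl⟩ := hχ
  have hζ := Complex.isPrimitiveRoot_exp p hp
  set ζ : ℂ := Complex.exp (2 * Real.pi * Complex.I / p) with hζd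
  obtain ⟨m, hm⟩ := Cfsg.Agent.Characters.Galois.exists_nat_coeffs ρ x hp hx hζ
  have hζp : ζ ^ p = 1 := hζ.pow_eq_one
  have hnorm : ζ * conj ζ = 1 := by
    rw [Complex.mul_conj]
    have h1 : ‖ζ‖ = 1 := hζ.norm'_eq_one hp
    rw [Complex.normSq_eq_norm_sq, h1]
    norm_num
  have hconj : conj ζ ^ p = 1 := by rw [← map_pow, hζp, map_one]
  refine ⟨m, ?_, ?_, ?_⟩
  · have h := hm 0
    rw [pow_zero] at h
    rw [h]
    refine Finset.sum_congr rfl fun j _ => ?_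
    rw [mul_zero, pow_zero, mul_one]
  · simp_rw [hm]
    rw [Finset.sum_comm]
    simp_rw [pow_mul, ← Finset.mul_sum]
    rw [Finset.sum_eq_single 0]
    · rw [pow_zero, sum_pow_root (one_pow _), if_pos rfl, mul_comm]
    · intro j hj hj0
      rw [sum_pow_root (by rw [← pow_mul, mul_comm, pow_mul, hζp, one_pow]), if_neg, mul_zero]
      intro h
      exact hj0 (hζ.pow_inj (mem_range.1 hj) (Nat.pos_of_ne_zero hp) (by rw [h, pow_zero]))
    · intro h
      exact absurd (mem_range.2 (Nat.pos_of_ne_zero hp)) h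
  · have h1 : ∀ k, ρ.character (x ^ k) * conj (ρ.character (x ^ k)) =
        ∑ j ∈ range p, ∑ l ∈ range p, ((m j : ℂ) * (m l : ℂ)) * (ζ ^ j * conj ζ ^ l) ^ k := by
      intro k
      rw [hm k, map_sum, Finset.sum_mul_sum]
      refine Finset.sum_congr rfl fun j _ => Finset.sum_congr rfl fun l _ => ?_
      rw [map_mul, map_pow, mul_pow, ← pow_mul, ← pow_mul]
      have : conj (m l : ℂ) = (m l : ℂ) := Complex.conj_natCast _
      rw [this]
      ring
    simp_rw [h1]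
    rw [Finset.sum_comm]
    rw [Finset.mul_sum]
    refine Finset.sum_congr rfl fun j hj => ?_
    rw [Finset.sum_comm]
    rw [Finset.sum_eq_single j]
    · rw [← Finset.mul_sum, ← mul_pow, hnorm, one_pow]
      rw [sum_pow_root (one_pow _), if_pos rfl]
      ring
    · intro l hl hlj
      rw [← Finset.mul_sum, sum_pow_root, if_neg, mul_zero]
      · intro h
        apply hlj
        refine hζ.pow_inj (mem_range.1 hl) (mem_range.1 hj) ?_
        have h2 : ζ ^ j * (conj ζ ^ l * ζ ^ l) = ζ ^ l := by rw [← mul_assoc, h, one_mul]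
        rw [← mul_pow, mul_comm (conj ζ), hnorm, one_pow, mul_one] at h2
        exact h2.symm
      · rw [mul_pow, ← pow_mul, ← pow_mul, mul_comm j, mul_comm l, pow_mul, pow_mul, hζp, hconj, one_pow, one_pow,
          one_mul]
    · intro h
      exact absurd hj h

/-- **Lower bound for the sum of the squares on the nontrivial powers of `x`.** -/
theorem le_sum_normSq {χ : G → ℂ} (hχ : IsCharacter G χ) {x : G} {p : ℕ} (hp : p ≠ 0) (hx : x ^ p = 1)
    {d : ℕ} (hd : χ 1 = d) :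
    (((d % p) * (p - d % p) : ℕ) : ℝ) ≤ ∑ k ∈ Ico 1 p, Complex.normSq (χ (x ^ k)) := by
  obtain ⟨m, h1, -, h3⟩ := exists_mult hχ hp hx
  have h1' : ∑ j ∈ range p, (m j : ℤ) = d := by
    have : ((∑ j ∈ range p, (m j : ℤ) : ℤ) : ℂ) = ((d : ℤ) : ℂ) := by
      push_cast
      rw [h1, hd]
    exact_mod_cast this
  have h3' : ∑ k ∈ range p, Complex.normSq (χ (x ^ k)) = p * ∑ j ∈ range p, (m j : ℝ) ^ 2 := by
    have : ((∑ k ∈ range p, Complex.normSq (χ (x ^ k)) : ℝ) : ℂ) = ((p * ∑ j ∈ range p, (m j : ℝ) ^ 2 : ℝ) : ℂ) := by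
      push_cast
      rw [← h3]
      refine Finset.sum_congr rfl fun k _ => ?_
      rw [Complex.mul_conj]
    exact_mod_cast this
  have h4 : ∑ k ∈ range p, Complex.normSq (χ (x ^ k)) =
      (d : ℝ) ^ 2 + ∑ k ∈ Ico 1 p, Complex.normSq (χ (x ^ k)) := by
    rw [Finset.range_eq_Ico, Finset.sum_eq_sum_Ico_succ_bot (Nat.pos_of_ne_zero hp), pow_zero, hd]
    congr 1
    rw [Complex.normSq_natCast]
    ring
  set q : ℤ := ((d / p : ℕ) : ℤ) with hq
  set r : ℤ := ((d % p : ℕ) : ℤ) with hr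
  have hdq : (d : ℤ) = p * q + r := by
    rw [hq, hr]
    exact_mod_cast (Nat.div_add_mod d p).symm
  have h5 : r ≤ ∑ j ∈ range p, ((m j : ℤ) - q) ^ 2 := by
    have h6 : ∑ j ∈ range p, ((m j : ℤ) - q) = r := by
      rw [Finset.sum_sub_distrib, h1', Finset.sum_const, card_range, nsmul_eq_mul, hdq]
      ring
    rw [← h6]
    refine Finset.sum_le_sum fun j _ => ?_
    nlinarith [Int.le_self_sq ((m j : ℤ) - q)]
  have h6 : ∑ j ∈ range p, ((m j : ℤ) - q) ^ 2 = ∑ j ∈ range p, (m j : ℤ) ^ 2 - 2 * q * d + p * q ^ 2 := by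
    have : ∀ j, ((m j : ℤ) - q) ^ 2 = (m j : ℤ) ^ 2 - 2 * q * (m j : ℤ) + q ^ 2 := fun j => by ring
    simp_rw [this]
    rw [Finset.sum_add_distrib, Finset.sum_sub_distrib, ← Finset.mul_sum, h1', Finset.sum_const, card_range,
      nsmul_eq_mul]
  have h7 : r * (p - r) ≤ p * ∑ j ∈ range p, (m j : ℤ) ^ 2 - (d : ℤ) ^ 2 := by
    have hp0 : (0 : ℤ) ≤ p := by positivity
    have h8 : (p : ℤ) * r ≤ p * (∑ j ∈ range p, (m j : ℤ) ^ 2 - 2 * q * d + p * q ^ 2) := by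
      apply mul_le_mul_of_nonneg_left _ hp0
      rw [← h6]
      exact h5
    have h9 : r = d - p * q := by rw [hdq]; ring
    nlinarith
  have h10 : ∑ k ∈ Ico 1 p, Complex.normSq (χ (x ^ k)) = p * ∑ j ∈ range p, (m j : ℝ) ^ 2 - (d : ℝ) ^ 2 := by
    linarith
  rw [h10]
  have h11 : (((d % p) * (p - d % p) : ℕ) : ℤ) = r * (p - r) := by
    rw [Nat.cast_mul, Nat.cast_sub (Nat.mod_lt d (Nat.pos_of_ne_zero hp)).le]
  have h12 : ((r * (p - r) : ℤ) : ℝ) ≤ ((p * ∑ j ∈ range p, (m j : ℤ) ^ 2 - (d : ℤ) ^ 2 : ℤ) : ℝ) := by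
    exact_mod_cast h7
  rw [← h11] at h12
  push_cast at h12 ⊢
  exact h12

/-- In the extremal case `χ(1) ≡ -1` modulo `p`, `∑_{0<k<p} |χ(x^k)|² = p - 1`, the sum of the values on the
nontrivial powers of `x` is `-(p-1)` or `1`. -/
theorem sum_of_extremal {χ : G → ℂ} (hχ : IsCharacter G χ) {x : G} {p : ℕ} (hp : p ≠ 0) (hx : x ^ p = 1)
    {d : ℕ} (hd : χ 1 = d) (hr : d % p = p - 1)
    (h : ∑ k ∈ Ico 1 p, Complex.normSq (χ (x ^ k)) = ((p - 1 : ℕ) : ℝ)) :
    ∑ k ∈ Ico 1 p, χ (x ^ k) = -((p - 1 : ℕ) : ℂ) ∨ ∑ k ∈ Ico 1 p, χ (x ^ k) = 1 := by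
  obtain ⟨m, h1, h2, h3⟩ := exists_mult hχ hp hx
  have h1' : ∑ j ∈ range p, (m j : ℤ) = d := by
    have : ((∑ j ∈ range p, (m j : ℤ) : ℤ) : ℂ) = ((d : ℤ) : ℂ) := by
      push_cast
      rw [h1, hd]
    exact_mod_cast this
  have h3' : ∑ k ∈ range p, Complex.normSq (χ (x ^ k)) = p * ∑ j ∈ range p, (m j : ℝ) ^ 2 := by
    have : ((∑ k ∈ range p, Complex.normSq (χ (x ^ k)) : ℝ) : ℂ) = ((p * ∑ j ∈ range p, (m j : ℝ) ^ 2 : ℝ) : ℂ) := by
      push_cast
      rw [← h3]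
      refine Finset.sum_congr rfl fun k _ => ?_
      rw [Complex.mul_conj]
    exact_mod_cast this
  have h4 : ∑ k ∈ range p, Complex.normSq (χ (x ^ k)) =
      (d : ℝ) ^ 2 + ∑ k ∈ Ico 1 p, Complex.normSq (χ (x ^ k)) := by
    rw [Finset.range_eq_Ico, Finset.sum_eq_sum_Ico_succ_bot (Nat.pos_of_ne_zero hp), pow_zero, hd]
    congr 1
    rw [Complex.normSq_natCast]
    ring
  have h5 : ∑ k ∈ range p, χ (x ^ k) = (d : ℂ) + ∑ k ∈ Ico 1 p, χ (x ^ k) := by
    rw [Finset.range_eq_Ico, Finset.sum_eq_sum_Ico_succ_bot (Nat.pos_of_ne_zero hp), pow_zero, hd]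
  have h7 : (p : ℤ) * ∑ j ∈ range p, (m j : ℤ) ^ 2 = (d : ℤ) ^ 2 + ((p - 1 : ℕ) : ℤ) := by
    have h8 : ((p * ∑ j ∈ range p, (m j : ℤ) ^ 2 : ℤ) : ℝ) = (((d : ℤ) ^ 2 + ((p - 1 : ℕ) : ℤ) : ℤ) : ℝ) := by
      push_cast [-Nat.cast_sub]
      rw [← h3', h4, h]
    exact_mod_cast h8
  set q : ℤ := ((d / p : ℕ) : ℤ) with hq
  have hp1 : ((p - 1 : ℕ) : ℤ) = p - 1 := by
    rw [Nat.cast_sub (Nat.pos_of_ne_zero hp)]
    norm_num
  have hdq : (d : ℤ) = p * q + (p - 1) := by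
    rw [← hp1, hq]
    have := (Nat.div_add_mod d p).symm
    rw [hr] at this
    exact_mod_cast this
  have h8 : ∑ j ∈ range p, ((m j : ℤ) - q) * ((m j : ℤ) - q - 1) = 0 := by
    have h9 : ∀ j, ((m j : ℤ) - q) * ((m j : ℤ) - q - 1) = (m j : ℤ) ^ 2 - (2 * q + 1) * (m j : ℤ) + q * (q + 1) :=
      fun j => by ring
    simp_rw [h9]
    rw [Finset.sum_add_distrib, Finset.sum_sub_distrib, ← Finset.mul_sum, h1', Finset.sum_const, card_range,
      nsmul_eq_mul]
    have hp0 : (p : ℤ) ≠ 0 := by exact_mod_cast hp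
    apply mul_left_cancel₀ hp0
    rw [mul_zero, mul_add, mul_sub, h7, hp1, hdq]
    ring
  have h9 : ∀ j ∈ range p, ((m j : ℤ) - q) * ((m j : ℤ) - q - 1) = 0 := by
    refine (Finset.sum_eq_zero_iff_of_nonneg fun j _ => ?_).1 h8
    nlinarith [Int.le_self_sq ((m j : ℤ) - q)]
  have h10 := h9 0 (mem_range.2 (Nat.pos_of_ne_zero hp))
  have h11 : ∑ k ∈ Ico 1 p, χ (x ^ k) = ((p * (m 0 : ℤ) - d : ℤ) : ℂ) := by
    push_cast
    rw [← h2, h5]
    ring
  rw [h11]
  rcases mul_eq_zero.1 h10 with h12 | h12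
  · left
    have h13 : (p * (m 0 : ℤ) - d : ℤ) = -((p - 1 : ℕ) : ℤ) := by
      rw [hp1, hdq, sub_eq_zero.1 h12]
      ring
    rw [h13]
    push_cast [-Nat.cast_sub]
    rfl
  · right
    have h14 : (m 0 : ℤ) = q + 1 := by linarith
    have h13 : (p * (m 0 : ℤ) - d : ℤ) = 1 := by
      rw [hdq, h14]
      ring
    rw [h13]
    norm_num

/-! ### counting -/

open Classical in
/-- The number of pairs `(y, k)` with `y x^k y⁻¹ = g` is at most the number of `z` with `z x = x^j z` for some `j`. -/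
theorem card_fiber_le [Fintype G] {x : G} {p : ℕ} (hp : p.Prime) (hx : orderOf x = p) (g : G) :
    ((univ ×ˢ Ico 1 p).filter fun a : G × ℕ => a.1 * x ^ a.2 * a.1⁻¹ = g).card ≤
      Nat.card {z : G // ∃ j ∈ Ico 1 p, z * x = x ^ j * z} := by
  rcases ((univ ×ˢ Ico 1 p).filter fun a : G × ℕ => a.1 * x ^ a.2 * a.1⁻¹ = g).eq_empty_or_nonempty with h | h
  · rw [h, Finset.card_empty]
    exact Nat.zero_le _
  · obtain ⟨⟨y₀, k₀⟩, h0⟩ := h
    rw [mem_filter, mem_product, mem_Ico] at h0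
    obtain ⟨⟨-, hk₀, hk₀'⟩, hg⟩ := h0
    simp only at hk₀ hk₀' hg
    rw [Nat.card_eq_fintype_card, ← Fintype.card_coe]
    have key : ∀ a : ((univ ×ˢ Ico 1 p).filter fun a : G × ℕ => a.1 * x ^ a.2 * a.1⁻¹ = g),
        (y₀⁻¹ * a.1.1) * x ^ a.1.2 = x ^ k₀ * (y₀⁻¹ * a.1.1) := by
      rintro ⟨⟨y, k⟩, ha⟩
      rw [mem_filter] at ha
      have h1 : y * x ^ k * y⁻¹ = y₀ * x ^ k₀ * y₀⁻¹ := ha.2.trans hg.symm
      have h2 : y * x ^ k = y₀ * x ^ k₀ * y₀⁻¹ * y := by rw [← h1]; group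
      show y₀⁻¹ * y * x ^ k = x ^ k₀ * (y₀⁻¹ * y)
      rw [mul_assoc, h2]
      group
    have key2 : ∀ a : ((univ ×ˢ Ico 1 p).filter fun a : G × ℕ => a.1 * x ^ a.2 * a.1⁻¹ = g),
        ∃ j ∈ Ico 1 p, (y₀⁻¹ * a.1.1) * x = x ^ j * (y₀⁻¹ * a.1.1) := by
      intro a
      have h1 := key a
      obtain ⟨⟨y, k⟩, ha⟩ := a
      rw [mem_filter, mem_product, mem_Ico] at ha
      obtain ⟨⟨-, hk1, hk2⟩, -⟩ := ha
      simp only at hk1 hk2 h1
      have hcop : k.Coprime p := by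
        rw [Nat.coprime_comm]
        exact (Nat.Prime.coprime_iff_not_dvd hp).2 fun h => by
          have := Nat.le_of_dvd (by omega) h
          omega
      obtain ⟨k', hk'⟩ := Nat.exists_mul_mod_eq_one_of_coprime hcop hp.one_lt
      have hz : (y₀⁻¹ * y) * x ^ (k * k') * (y₀⁻¹ * y)⁻¹ = x ^ (k₀ * k') := by
        have e1 : (y₀⁻¹ * y) * x ^ k * (y₀⁻¹ * y)⁻¹ = x ^ k₀ := by
          rw [h1]
          exact mul_inv_cancel_right _ _
        rw [pow_mul, pow_mul, ← conj_pow, e1]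
      have hx1 : x ^ (k * k') = x := by
        conv_rhs => rw [← pow_one x]
        rw [pow_inj_mod, hx, hk'.2, Nat.mod_eq_of_lt hp.one_lt]
      rw [hx1] at hz
      refine ⟨(k₀ * k') % p, ?_, ?_⟩
      · rw [mem_Ico]
        refine ⟨?_, Nat.mod_lt _ hp.pos⟩
        rw [Nat.one_le_iff_ne_zero]
        intro h
        have hd := Nat.dvd_of_mod_eq_zero h
        rcases (Nat.Prime.dvd_mul hp).1 hd with h2 | h2
        · have := Nat.le_of_dvd (by omega) h2
          omega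
        · have h3 : k * k' % p = 0 := Nat.mod_eq_zero_of_dvd (Dvd.dvd.mul_left h2 k)
          rw [hk'.2] at h3
          omega
      · have h2 : x ^ ((k₀ * k') % p) = x ^ (k₀ * k') := by
          rw [pow_inj_mod, hx, Nat.mod_mod]
        rw [h2, ← hz]
        group
    refine Fintype.card_le_of_injective
      (fun a => (⟨y₀⁻¹ * a.1.1, key2 a⟩ : {z : G // ∃ j ∈ Ico 1 p, z * x = x ^ j * z})) ?_
    intro a b hab
    have h1 : y₀⁻¹ * a.1.1 = y₀⁻¹ * b.1.1 := congrArg Subtype.val hab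
    have h2 : a.1.1 = b.1.1 := mul_left_cancel h1
    have h3 : x ^ a.1.2 = x ^ b.1.2 := by
      have h4 := key a
      have h5 := key b
      rw [h2] at h4
      rw [← h5] at h4
      exact mul_left_cancel h4
    obtain ⟨⟨y, k⟩, ha⟩ := a
    obtain ⟨⟨y', k'⟩, hb⟩ := b
    rw [mem_filter, mem_product, mem_Ico] at ha hb
    simp only at h2 h3 ha hb
    rw [pow_inj_mod, hx, Nat.mod_eq_of_lt ha.1.2.2, Nat.mod_eq_of_lt hb.1.2.2] at h3
    subst h2 h3
    rfl

open Classical in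
/-- **Counting the conjugates of the powers of `x`.** -/
theorem card_mul_le [Fintype G] {x : G} {p : ℕ} (hp : p.Prime) (hx : orderOf x = p) {n : ℕ}
    (hn : Nat.card {z : G // ∃ j ∈ Ico 1 p, z * x = x ^ j * z} ≤ n)
    {F : G → ℝ} (hF : ∀ g, 0 ≤ F g) (hc : ∀ g h, F (h * g * h⁻¹) = F g) :
    (Nat.card G : ℝ) * ∑ k ∈ Ico 1 p, F (x ^ k) ≤ n * ∑ g ∈ univ.filter (fun g => orderOf g = p), F g := by
  have h1 : ∑ a ∈ (univ : Finset G) ×ˢ Ico 1 p, F (a.1 * x ^ a.2 * a.1⁻¹) =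
      (Nat.card G : ℝ) * ∑ k ∈ Ico 1 p, F (x ^ k) := by
    rw [Finset.sum_product]
    simp_rw [hc]
    rw [Finset.sum_const, Finset.card_univ, nsmul_eq_mul, Nat.card_eq_fintype_card]
  have hmaps : ∀ a ∈ (univ : Finset G) ×ˢ Ico 1 p, a.1 * x ^ a.2 * a.1⁻¹ ∈
      univ.filter (fun g : G => orderOf g = p) := by
    intro a ha
    rw [mem_product, mem_Ico] at ha
    rw [mem_filter]
    refine ⟨mem_univ _, ?_⟩
    have h2 : orderOf (a.1 * x ^ a.2 * a.1⁻¹) = orderOf (x ^ a.2) := by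
      have h3 := orderOf_injective (MulAut.conj a.1).toMonoidHom (MulAut.conj a.1).injective (x ^ a.2)
      exact h3
    rw [h2]
    have h3 : (orderOf x).Coprime a.2 := by
      rw [hx]
      exact (Nat.Prime.coprime_iff_not_dvd hp).2 fun h => by
        have := Nat.le_of_dvd (by omega) h
        omega
    rw [h3.orderOf_pow, hx]
  rw [← h1, ← Finset.sum_fiberwise_of_maps_to hmaps, Finset.mul_sum]
  refine Finset.sum_le_sum fun g _ => ?_
  have h2 : ∑ a ∈ ((univ : Finset G) ×ˢ Ico 1 p).filter (fun a => a.1 * x ^ a.2 * a.1⁻¹ = g),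
      F (a.1 * x ^ a.2 * a.1⁻¹) =
      (((univ ×ˢ Ico 1 p).filter fun a : G × ℕ => a.1 * x ^ a.2 * a.1⁻¹ = g).card : ℝ) * F g := by
    rw [← nsmul_eq_mul, ← Finset.sum_const]
    refine Finset.sum_congr rfl fun a ha => ?_
    rw [(mem_filter.1 ha).2]
  rw [h2]
  refine mul_le_mul_of_nonneg_right ?_ (hF g)
  exact_mod_cast (card_fiber_le hp hx g).trans hn

open Classical in
/-- The sum over the elements of order in `T` (a set not containing 1), and the identity. -/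
theorem sum_le_of_orders [Fintype G] (T : Finset ℕ) (hT : 1 ∉ T) {F : G → ℝ} (hF : ∀ g, 0 ≤ F g) :
    F 1 + ∑ p ∈ T, ∑ g ∈ univ.filter (fun g : G => orderOf g = p), F g ≤ ∑ g : G, F g := by
  have h1 : ∑ p ∈ insert 1 T, ∑ g ∈ univ.filter (fun g : G => orderOf g = p), F g ≤ ∑ g : G, F g := by
    simp_rw [Finset.sum_filter]
    rw [Finset.sum_comm]
    refine Finset.sum_le_sum fun g _ => ?_
    rw [Finset.sum_ite_eq]
    split_ifs
    · exact le_rfl
    · exact hF g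
  rw [Finset.sum_insert hT] at h1
  have h2 : ∑ g ∈ univ.filter (fun g : G => orderOf g = 1), F g = F 1 := by
    have : (univ.filter fun g : G => orderOf g = 1) = {1} := by
      ext g
      rw [mem_filter, mem_singleton, orderOf_eq_one_iff]
      exact and_iff_right (mem_univ g)
    rw [this, Finset.sum_singleton]
  rwa [h2] at h1

/-- The norm of an irreducible character. -/
theorem sum_normSq [Fintype G] {χ : G → ℂ} (hχ : IsIrrCharacter G χ) :
    ∑ g : G, Complex.normSq (χ g) = Nat.card G := by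
  have h1 := Cfsg.Agent.Characters.Core.classInner_irr_self hχ
  rw [Cfsg.Agent.Characters.Core.classInner_self_eq_ofReal] at h1
  have h2 : (Nat.card G : ℝ)⁻¹ * ∑ g : G, Complex.normSq (χ g) = 1 := by exact_mod_cast h1
  have h3 : (Nat.card G : ℝ) ≠ 0 := by
    rw [Nat.card_eq_fintype_card]
    exact_mod_cast Fintype.card_ne_zero
  field_simp at h2
  linarith

theorem normSq_conj {χ : G → ℂ} (hχ : IsCharacter G χ) (g h : G) :
    Complex.normSq (χ (h * g * h⁻¹)) = Complex.normSq (χ g) := by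
  rw [Cfsg.Agent.Characters.Core.isCharacter_isClassFunction hχ]

/-! ### divisibility of the values of a character of defect zero -/

/-- If `χ(1)` is divisible by the full `2`-part `2^a` of `|G|` and `2^e` divides `|C(x)|`, then `2^e` divides the
integer `χ(x)`. -/
theorem pow_dvd_of_defectZero [Finite G] {χ : G → ℂ} (hχ : IsIrrCharacter G χ) {a m d' e : ℕ}
    (hG : Nat.card G = 2 ^ a * m) (hm : Odd m) (hd : χ 1 = ((2 ^ a * d' : ℕ) : ℂ)) {x : G}
    (hC : 2 ^ e ∣ Nat.card (Subgroup.centralizer ({x} : Set G))) {c : ℤ} (hc : χ x = c) :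
    (2 : ℤ) ^ e ∣ c := by
  have h1 := Cfsg.Agent.Blocks.Central.isIntegral_centralChar hχ x
  have hd0 : ((2 ^ a * d' : ℕ) : ℂ) ≠ 0 := hd ▸ Cfsg.Agent.Characters.Core.isIrr_apply_one_ne_zero hχ
  obtain ⟨w, hw⟩ := Cfsg.Agent.Characters.GaloisBasic.exists_int_of_isIntegral h1 (by
    unfold centralChar
    rw [hd, hc]
    refine ⟨((Subgroup.centralizer ({x} : Set G)).index : ℚ) * (c : ℚ) / ((2 ^ a * d' : ℕ) : ℚ), ?_⟩
    push_cast
    rfl)
  unfold centralChar at hw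
  rw [hd, hc, div_eq_iff hd0] at hw
  have h2 : ((Subgroup.centralizer ({x} : Set G)).index : ℤ) * c = w * ((2 ^ a * d' : ℕ) : ℤ) := by
    exact_mod_cast hw
  obtain ⟨u, hu⟩ := hC
  have h3 : (Subgroup.centralizer ({x} : Set G)).index * (2 ^ e * u) = 2 ^ a * m := by
    rw [← hu, ← hG]
    exact Subgroup.index_mul_card _
  have h4 : (2 : ℤ) ^ a * (m * c) = 2 ^ a * (2 ^ e * (w * d' * u)) := by
    have h5 : (2 : ℤ) ^ a * m = ((Subgroup.centralizer ({x} : Set G)).index : ℤ) * (2 ^ e * u) := by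
      exact_mod_cast h3.symm
    calc (2 : ℤ) ^ a * (m * c) = (2 ^ a * m) * c := by ring
      _ = (((Subgroup.centralizer ({x} : Set G)).index : ℤ) * c) * (2 ^ e * u) := by rw [h5]; ring
      _ = 2 ^ a * (2 ^ e * (w * d' * u)) := by rw [h2]; push_cast; ring
  have h5 := mul_left_cancel₀ (pow_ne_zero a (by norm_num : (2 : ℤ) ≠ 0)) h4
  have h6 : (2 : ℤ) ^ e ∣ m * c := ⟨_, h5⟩
  have h7 : IsCoprime ((2 : ℤ) ^ e) (m : ℤ) := by
    apply IsCoprime.pow_left
    rw [show (2 : ℤ) = ((2 : ℕ) : ℤ) by norm_num, Nat.isCoprime_iff_coprime]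
    exact (Nat.coprime_two_left).2 hm
  exact h7.dvd_of_dvd_mul_left h6

end Cfsg.Agent.H729.Norm
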