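import Cfsg.Agent.H729.Count
import Cfsg.Agent.H729.Norm
import Cfsg.Agent.LThreeCo1T8.Perm
import Cfsg.Agent.Blocks.Basic
import Cfsg.Agent.Blocks.Knorr
import Cfsg.Agent.S0364
set_option linter.all false

/-!
# `M24` has no irreducible character of degree divisible by `2 ^ 10`
-/

set_option autoImplicit false

namespace Cfsg.Agent.H729.M24Deg

open Cfsg Finset
open Cfsg.Agent.SporadicA.GolayBase Cfsg.Agent.SporadicA.GolayPerm
open Cfsg.Agent.SporadicStructure.M24El Cfsg.Agent.H729.Trans Cfsg.Agent.H729.MData Cfsg.Agent.H729.Count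
open Cfsg.Agent.H729.Norm

theorem el_pow_eq_one {c p : ℕ} (hc : ok c = true) (h : Nat.beq (ppow c p) idP = true) : el c ^ p = 1 := by
  rw [← el_ppow hc, Nat.eq_of_beq_eq_true h, el_idP]

theorem el_ne_one {c : ℕ} (hc : ok c = true) (i : ℕ) (hi : i < 24) (h : Nat.beq (papp c i) i = false) :
    el c ≠ 1 := by
  intro e
  have h1 := idx_el_smul hc (pt i)
  rw [e, one_smul, idx_pt hi] at h1
  rw [← h1, Nat.beq_refl] at h
  exact Bool.noConfusion h

theorem orderOf_el {c p : ℕ} (hp : p.Prime) (hc : ok c = true) (h : Nat.beq (ppow c p) idP = true)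
    (i : ℕ) (hi : i < 24) (h' : Nat.beq (papp c i) i = false) : orderOf (el c) = p := by
  have : Fact p.Prime := ⟨hp⟩
  exact orderOf_eq_prime (el_pow_eq_one hc h) (el_ne_one hc i hi h')

/-- The conjugating list `T` : `T k` conjugates `c` to `c ^ (k + 1)`. -/
def conjOk (p c : ℕ) (T : List ℕ) : Bool :=
  (List.range (p - 1)).all fun k => ok (T.getD k 0) && Nat.beq (pcomp (T.getD k 0) c) (pcomp (ppow c (k + 1)) (T.getD k 0))

theorem isConj_of_conjOk {p c : ℕ} (hp : p.Prime) (hc : ok c = true) (ho : orderOf (el c) = p) {T : List ℕ}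
    (h : conjOk p c T = true) (m : ℕ) (hm : m.Coprime (orderOf (el c))) : IsConj (el c) (el c ^ m) := by
  have h1 : el c ^ m = el c ^ (m % p) := by
    rw [pow_inj_mod, ho, Nat.mod_mod]
  have h2 : m % p < p := Nat.mod_lt _ hp.pos
  have h3 : m % p ≠ 0 := by
    intro h0
    rw [ho] at hm
    have := Nat.Coprime.symm hm
    exact (Nat.Prime.coprime_iff_not_dvd hp).1 this (Nat.dvd_of_mod_eq_zero h0)
  have h4 := List.all_eq_true.1 h (m % p - 1) (List.mem_range.2 (by omega))
  rw [Bool.and_eq_true, Nat.sub_add_cancel (Nat.one_le_iff_ne_zero.2 h3)] at h4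
  have h5 := congrArg el (Nat.eq_of_beq_eq_true h4.2)
  rw [el_pcomp h4.1 hc, el_pcomp (ok_ppow hc _) h4.1, el_ppow hc] at h5
  rw [h1, isConj_iff]
  exact ⟨el (T.getD (m % p - 1) 0), by rw [h5]; group⟩

/-! ### the four elements -/

theorem p23 : Nat.Prime 23 := by norm_num
theorem p11 : Nat.Prime 11 := by norm_num
theorem p5 : Nat.Prime 5 := by norm_num
theorem p3 : Nat.Prime 3 := by norm_num

theorem o23 : orderOf (el c23) = 23 :=
  orderOf_el p23 (ok_of_pre pre23) (by decide +kernel) 0 (by norm_num) (by decide +kernel)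
theorem o11 : orderOf (el c11) = 11 :=
  orderOf_el p11 (ok_of_pre pre11) (by decide +kernel) 1 (by norm_num) (by decide +kernel)
theorem o5 : orderOf (el c5) = 5 :=
  orderOf_el p5 (ok_of_pre pre5) (by decide +kernel) 1 (by norm_num) (by decide +kernel)
theorem ok3 : ok c3 = true := by decide +kernel
theorem o3 : orderOf (el c3) = 3 :=
  orderOf_el p3 ok3 (by decide +kernel) 1 (by norm_num) (by decide +kernel)

theorem st_triv {sts : List (ℕ × List ℕ × List (List (ℕ × ℕ)))} (h : (sts.all fun st => decide (st.2.1 = List.range 24)) = true)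
    (g : M24) : ∀ st ∈ sts, im g st.1 ∈ st.2.1 := by
  intro st hst
  have h1 := of_decide_eq_true (List.all_eq_true.1 h st hst)
  rw [h1]
  exact List.mem_range.2 (im_lt g _)

theorem n23 : Nat.card {z : M24 // ∃ j ∈ Ico 1 23, z * el c23 = el c23 ^ j * z} ≤ 253 := by
  rw [← tot23]
  exact card_norm_le (MonoidHom.id M24) Function.injective_id pre23 rfl (fun g => st_triv (by decide +kernel) g)

theorem n11 : Nat.card {z : M24 // ∃ j ∈ Ico 1 11, z * el c11 = el c11 ^ j * z} ≤ 110 := by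
  have h1 := card_cent_le (MonoidHom.id M24) Function.injective_id pre11 (x := el c11) rfl
    (fun g => st_triv (by decide +kernel) g)
  rw [len11] at h1
  have h2 := card_norm_le_mul (el c11) 11
  omega

theorem n5 : Nat.card {z : M24 // ∃ j ∈ Ico 1 5, z * el c5 = el c5 ^ j * z} ≤ 240 := by
  have h1 := card_cent_le (MonoidHom.id M24) Function.injective_id pre5 (x := el c5) rfl
    (fun g => st_triv (by decide +kernel) g)
  rw [len5] at h1
  have h2 := card_norm_le_mul (el c5) 5
  omega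

theorem d5 : 4 ∣ Nat.card (Subgroup.centralizer ({el c5} : Set M24)) := by
  have h := length_dvd_card_centralizer (ok_of_pre pre5) (L := l4) (by decide +kernel)
  exact h

theorem d3 : 8 ∣ Nat.card (Subgroup.centralizer ({el c3} : Set M24)) := by
  have h := length_dvd_card_centralizer ok3 (L := l8) (by decide +kernel)
  exact h

theorem tab3 : ((List.range 24).all fun i => Nat.beq (papp c3 i) (Cfsg.Agent.LThreeCo1T8.Perm.tabS.getD i 0)) = true := by
  decide +kernel

theorem el3_apply (p : GolayPt) : (el c3 : Equiv.Perm GolayPt) p = Cfsg.Agent.LThreeCo1T8.Perm.sg p := by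
  have h1 := el_smul_pt ok3 p
  have h2 := Nat.eq_of_beq_eq_true (List.all_eq_true.1 tab3 (idx p) (List.mem_range.2 (idx_lt p)))
  rw [h2, Cfsg.Agent.LThreeCo1T8.Perm.tabS_spec, pt_idx] at h1
  exact h1

theorem cent3 : Nat.card (Subgroup.centralizer ({el c3} : Set M24)) ≤ 504 := by
  refine le_trans ?_ Cfsg.Agent.LThreeCo1T8.Perm.card_cent
  have : Finite Cfsg.Agent.LThreeCo1T8.Perm.H := inferInstance
  refine Nat.card_le_card_of_injective (fun z => ⟨((z : M24) : Equiv.Perm GolayPt), ?_⟩) ?_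
  · rw [Cfsg.Agent.LThreeCo1T8.Perm.mem_H]
    refine ⟨(z : M24).2, fun p => ?_⟩
    have hz := Subgroup.mem_centralizer_singleton_iff.1 z.2
    have h1 := congrArg (fun g : M24 => (g : Equiv.Perm GolayPt) p) hz
    rw [← el3_apply, ← el3_apply]
    exact h1
  · intro a b hab
    have h := congrArg (fun t : Cfsg.Agent.LThreeCo1T8.Perm.H => (t : Equiv.Perm GolayPt)) hab
    exact Subtype.ext (Subtype.ext h)

theorem n3 : Nat.card {z : M24 // ∃ j ∈ Ico 1 3, z * el c3 = el c3 ^ j * z} ≤ 1008 := by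
  have h1 := cent3
  have h2 := card_norm_le_mul (el c3) 3
  omega

/-! ### the degree -/

theorem card_M24 : Nat.card M24 = 244823040 := Cfsg.Agent.S0364.result

theorem fact2 : (Nat.card M24).factorization 2 = 10 := by
  rw [card_M24, show 244823040 = 2 ^ 10 * 239085 by norm_num, Nat.factorization_mul (by norm_num) (by norm_num),
    Nat.Prime.factorization_pow Nat.prime_two]
  rw [Finsupp.add_apply, Finsupp.single_eq_same, Nat.factorization_eq_zero_of_not_dvd (by norm_num)]

theorem int_value {χ : M24 → ℂ} (hχ : IsCharacter M24 χ) {p c : ℕ} (hp : p.Prime) (hc : ok c = true)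
    (ho : orderOf (el c) = p) {T : List ℕ} (h : conjOk p c T = true) {d : ℕ} (hd : χ 1 = d) :
    ∃ k : ℤ, χ (el c) = k ∧ (p : ℤ) ∣ k - d ∧
      ∑ j ∈ Ico 1 p, Complex.normSq (χ (el c ^ j)) = ((p - 1 : ℕ) : ℝ) * (k : ℝ) ^ 2 := by
  have hconj := isConj_of_conjOk hp hc ho h
  obtain ⟨k, hk⟩ := Cfsg.Agent.J3Type.CharTools.int_of_conj hχ (el c) hconj
  refine ⟨k, hk, ?_, ?_⟩
  · refine Cfsg.Agent.J3Type.CharTools.int_congr hχ (el c) hp hk (b := (d : ℤ)) ?_
    rw [← ho, pow_orderOf_eq_one, hd]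
    norm_num
  · have h1 : ∀ j ∈ Ico 1 p, Complex.normSq (χ (el c ^ j)) = (k : ℝ) ^ 2 := by
      intro j hj
      rw [mem_Ico] at hj
      have hcop : j.Coprime (orderOf (el c)) := by
        rw [ho, Nat.coprime_comm]
        exact (Nat.Prime.coprime_iff_not_dvd hp).2 fun h => by
          have := Nat.le_of_dvd (by omega) h
          omega
      rw [← Cfsg.Agent.Characters.Core.classFunction_apply_eq
        (Cfsg.Agent.Characters.Core.isCharacter_isClassFunction hχ) (hconj j hcop), hk, Complex.normSq_intCast]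
      ring
    rw [Finset.sum_congr rfl h1, Finset.sum_const, Nat.card_Ico, nsmul_eq_mul]

theorem sq_ge_one {k : ℤ} (h : k ≠ 0) : (1 : ℝ) ≤ (k : ℝ) ^ 2 := by
  have : (1 : ℤ) ≤ k ^ 2 := by
    have := Int.one_le_abs h
    nlinarith [sq_abs k]
  exact_mod_cast this

theorem sq_ge_four {k : ℤ} (h : k ≠ 0) (h1 : k ≠ 1) (h2 : k ≠ -1) : (4 : ℝ) ≤ (k : ℝ) ^ 2 := by
  have h3 : (4 : ℤ) ≤ k ^ 2 := by
    rcases lt_or_gt_of_ne h with h0 | h0
    · have : k ≤ -2 := by omega
      nlinarith
    · have : 2 ≤ k := by omega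
      nlinarith
  exact_mod_cast h3

/-- **`M24` has no irreducible character of 2-defect zero.** -/
theorem not_dvd (χ : IrrCharacter M24) : ¬ 2 ^ (Nat.card M24).factorization 2 ∣ charDegree (χ : M24 → ℂ) := by
  rw [fact2]
  rintro ⟨d', hd'⟩
  have hχ := χ.2
  have hχc := Cfsg.Agent.Characters.Core.isIrr_isCharacter hχ
  have hd : (χ : M24 → ℂ) 1 = ((2 ^ 10 * d' : ℕ) : ℂ) := by
    rw [← hd']
    exact Cfsg.Agent.Blocks.Basic.irr_one_eq_charDegree hχ
  -- `d'` is odd
  have hodd : Odd d' := by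
    have h1 := Cfsg.Agent.Blocks.Knorr.charDegree_dvd hχ
    rw [card_M24, hd'] at h1
    rw [← Nat.not_even_iff_odd]
    rintro ⟨r, rfl⟩
    have h2 : 2 ^ 11 ∣ 244823040 := by
      refine dvd_trans ⟨r, ?_⟩ h1
      ring
    omega
  -- the sums
  set F : M24 → ℝ := fun g => Complex.normSq ((χ : M24 → ℂ) g) with hF
  have hF0 : ∀ g, 0 ≤ F g := fun g => Complex.normSq_nonneg _
  have hFc : ∀ g h, F (h * g * h⁻¹) = F g := fun g h => normSq_conj hχc g h
  have hsum := sum_le_of_orders {3, 5, 11, 23} (by norm_num) hF0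
  rw [sum_normSq hχ, card_M24, Finset.sum_insert (by norm_num), Finset.sum_insert (by norm_num),
    Finset.sum_insert (by norm_num), Finset.sum_singleton] at hsum
  have hF1 : F 1 = ((2 ^ 10 * d' : ℕ) : ℝ) ^ 2 := by
    rw [hF]
    simp only
    rw [hd, Complex.normSq_natCast]
    ring
  rw [hF1] at hsum
  have e23 := card_mul_le p23 o23 n23 hF0 hFc
  have e11 := card_mul_le p11 o11 n11 hF0 hFc
  have e5 := card_mul_le p5 o5 n5 hF0 hFc
  have e3 := card_mul_le p3 o3 n3 hF0 hFc
  rw [card_M24] at e23 e11 e5 e3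
  have a23 := le_sum_normSq hχc (x := el c23) (p := 23) (by norm_num) (by rw [← o23, pow_orderOf_eq_one]) hd
  have a11 := le_sum_normSq hχc (x := el c11) (p := 11) (by norm_num) (by rw [← o11, pow_orderOf_eq_one]) hd
  obtain ⟨c, hc1, hc2, hc3⟩ := int_value hχc p5 (ok_of_pre pre5) o5 (T := t5) (by decide +kernel) hd
  obtain ⟨b, hb1, hb2, hb3⟩ := int_value hχc p3 ok3 o3 (T := t3) (by decide +kernel) hd
  have hG : Nat.card M24 = 2 ^ 10 * 239085 := by rw [card_M24]; norm_num
  obtain ⟨c', rfl⟩ := pow_dvd_of_defectZero hχ (e := 2) hG (by decide) hd d5 hc1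
  obtain ⟨b', rfl⟩ := pow_dvd_of_defectZero hχ (e := 3) hG (by decide) hd d3 hb1
  change ∑ k ∈ Ico 1 5, F (el c5 ^ k) = _ at hc3
  change ∑ k ∈ Ico 1 3, F (el c3 ^ k) = _ at hb3
  change _ ≤ ∑ k ∈ Ico 1 23, F (el c23 ^ k) at a23
  change _ ≤ ∑ k ∈ Ico 1 11, F (el c11 ^ k) at a11
  rw [hc3] at e5
  rw [hb3] at e3
  set A23 := ∑ k ∈ Ico 1 23, F (el c23 ^ k)
  set A11 := ∑ k ∈ Ico 1 11, F (el c11 ^ k)
  have hd16 : d' < 16 := by
    by_contra hlt
    have h1 : (16 : ℝ) ≤ d' := by exact_mod_cast not_lt.1 hlt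
    have s3 : 0 ≤ ∑ g ∈ univ.filter (fun g : M24 => orderOf g = 3), F g := Finset.sum_nonneg fun g _ => hF0 g
    have s5 : 0 ≤ ∑ g ∈ univ.filter (fun g : M24 => orderOf g = 5), F g := Finset.sum_nonneg fun g _ => hF0 g
    have s11 : 0 ≤ ∑ g ∈ univ.filter (fun g : M24 => orderOf g = 11), F g := Finset.sum_nonneg fun g _ => hF0 g
    have s23 : 0 ≤ ∑ g ∈ univ.filter (fun g : M24 => orderOf g = 23), F g := Finset.sum_nonneg fun g _ => hF0 g
    push_cast at hsum
    nlinarith
  set S3 := ∑ g ∈ univ.filter (fun g : M24 => orderOf g = 3), F g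
  set S5 := ∑ g ∈ univ.filter (fun g : M24 => orderOf g = 5), F g
  set S11 := ∑ g ∈ univ.filter (fun g : M24 => orderOf g = 11), F g
  set S23 := ∑ g ∈ univ.filter (fun g : M24 => orderOf g = 23), F g
  have e5' : 244823040 * (64 * (c' : ℝ) ^ 2) ≤ 240 * S5 := by
    refine le_trans (le_of_eq ?_) (e5.trans_eq ?_)
    · push_cast; ring
    · norm_num
  have e3' : 244823040 * (128 * (b' : ℝ) ^ 2) ≤ 1008 * S3 := by
    refine le_trans (le_of_eq ?_) (e3.trans_eq ?_)
    · push_cast; ring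
    · norm_num
  clear hc3 hb3 e5 e3 hc1 hb1
  push_cast at e11 e23 hsum
  have hb0 : (0 : ℝ) ≤ (b' : ℝ) ^ 2 := sq_nonneg _
  have hc0 : (0 : ℝ) ≤ (c' : ℝ) ^ 2 := sq_nonneg _
  clear hd hd' hF1 hG
  interval_cases d'
  · exact absurd hodd (by decide)
  · -- 1024
    norm_num at a23 a11 hsum
    have h1 := sq_ge_one (k := c') (by rintro rfl; omega)
    have h2 := sq_ge_one (k := b') (by rintro rfl; omega)
    linarith
  · exact absurd hodd (by decide)
  · norm_num at a23 a11 hsum
    have h1 := sq_ge_four (k := c') (by rintro rfl; omega) (by rintro rfl; omega) (by rintro rfl; omega)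
    linarith
  · exact absurd hodd (by decide)
  · norm_num at a23 a11 hsum
    have h2 := sq_ge_one (k := b') (by rintro rfl; omega)
    linarith
  · exact absurd hodd (by decide)
  · norm_num at a23 a11 hsum
    have h1 := sq_ge_four (k := c') (by rintro rfl; omega) (by rintro rfl; omega) (by rintro rfl; omega)
    linarith
  · exact absurd hodd (by decide)
  · norm_num at a23 a11 hsum
    have h1 := sq_ge_one (k := c') (by rintro rfl; omega)
    linarith
  · exact absurd hodd (by decide)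
  · norm_num at a23 hsum
    have h1 := sq_ge_one (k := c') (by rintro rfl; omega)
    have h2 : 0 ≤ A11 := Finset.sum_nonneg fun k _ => hF0 _
    linarith
  · exact absurd hodd (by decide)
  · norm_num at a23 a11 hsum
    linarith
  · exact absurd hodd (by decide)
  · norm_num at a23 a11 hsum
    linarith

end Cfsg.Agent.H729.M24Deg
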