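import Cfsg.Agent.H729.PairTool_m3
import Cfsg.Agent.KFacts.HS.Sheet2_m3
import Cfsg.Agent.FastGrp
import Cfsg.Agent.Prune
set_option linter.all false
prune_inst 0x7f00000000000000000000000000000000000000000000000000000000000000000000000000000000000000000000000000000000000000000000000000000000000000000000000000000000000000003fffffffffffffffffffffffffffbeffbdffffffff
open scoped Cfsg.Agent.FastGrp

/-!
# The coprime pair in the Higman–Sims group: two involutions of class 2B with product of order 7
-/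

set_option autoImplicit false

namespace Cfsg.Agent.H729.PairHS

open Subgroup Cfsg
open Cfsg.Agent.HN Cfsg.Agent.HN.Pres Cfsg.Agent.HN.HS100 Cfsg.Agent.HN.P1408 Cfsg.Agent.HN.H0Basic
open Cfsg.Agent.KFacts.HS Cfsg.Agent.KFacts.HS.DFour
open Cfsg.Agent.KFacts.HS.TwoB (g0 g0w g0_mem_K)
open Cfsg.Agent.H729.PairBase

section

variable {L : Type*} [Group L] (D : KFacts.HS.Mod L)

theorem card_conj {c x y : L} (h : c * x * c⁻¹ = y) :
    Nat.card (centralizer ({y} : Set L)) = Nat.card (centralizer ({x} : Set L)) := by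
  subst h
  refine Nat.card_congr ⟨fun u => ⟨c⁻¹ * u * c, ?_⟩, fun u => ⟨c * u * c⁻¹, ?_⟩, fun u => ?_, fun u => ?_⟩
  · rw [mem_centralizer_singleton_iff]
    have := mem_centralizer_singleton_iff.1 u.2
    calc c⁻¹ * (u : L) * c * x = c⁻¹ * ((u : L) * (c * x * c⁻¹)) * c := by group
      _ = c⁻¹ * ((c * x * c⁻¹) * u) * c := by rw [this]
      _ = x * (c⁻¹ * u * c) := by group
  · rw [mem_centralizer_singleton_iff]
    have := mem_centralizer_singleton_iff.1 u.2
    calc c * (u : L) * c⁻¹ * (c * x * c⁻¹) = c * ((u : L) * x) * c⁻¹ := by group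
      _ = c * (x * u) * c⁻¹ := by rw [this]
      _ = c * x * c⁻¹ * (c * u * c⁻¹) := by group
  · apply Subtype.ext
    show c * (c⁻¹ * (u : L) * c) * c⁻¹ = u
    group
  · apply Subtype.ext
    show c⁻¹ * (c * (u : L) * c⁻¹) * c = u
    group

theorem dvd_720 : 720 ∣ Nat.card (centralizer ({D.s0} : Set L)) := by
  have hfin := D.finite
  have hs : orderOf D.s0 = 2 := orderOf_eq_prime (by rw [pow_two, D.s0_sq]) D.s0_ne
  have hc : ∀ (m : D.B6) (n : zpowers D.s0), Commute (D.B6.subtype m) ((zpowers D.s0).subtype n) := by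
    intro m n
    obtain ⟨k, hk⟩ := mem_zpowers_iff.1 n.2
    show Commute (m : L) (n : L)
    rw [← hk]
    exact (show Commute (m : L) D.s0 from D.s0_comm m.2).zpow_right k
  have hinj : Function.Injective (MonoidHom.noncommCoprod D.B6.subtype (zpowers D.s0).subtype hc) := by
    rw [MonoidHom.noncommCoprod_injective]
    refine ⟨subtype_injective _, subtype_injective _, ?_⟩
    rw [range_subtype, range_subtype, disjoint_def]
    intro x hx hx'
    obtain ⟨k, hk⟩ := mem_zpowers_iff.1 hx'
    rcases Int.even_or_odd' k with ⟨j, rfl | rfl⟩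
    · rw [← hk, zpow_mul, show D.s0 ^ (2 : ℤ) = 1 by rw [zpow_two, D.s0_sq], one_zpow]
    · exfalso
      apply D.s0_notMem
      rw [zpow_add, zpow_mul, show D.s0 ^ (2 : ℤ) = 1 by rw [zpow_two, D.s0_sq],
        one_zpow, one_mul, zpow_one] at hk
      rw [hk]; exact hx
  have hle : (MonoidHom.noncommCoprod D.B6.subtype (zpowers D.s0).subtype hc).range ≤ centralizer ({D.s0} : Set L) := by
    rintro _ ⟨⟨m, n⟩, rfl⟩
    rw [mem_centralizer_singleton_iff]
    show (m : L) * (n : L) * D.s0 = D.s0 * ((m : L) * (n : L))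
    obtain ⟨k, hk⟩ := mem_zpowers_iff.1 n.2
    rw [← hk]
    exact ((show Commute (m : L) D.s0 from D.s0_comm m.2).mul_left ((Commute.refl D.s0).zpow_left k)).eq
  have h1 := card_dvd_of_le hle
  rw [← Nat.card_congr (MonoidHom.ofInjective hinj).toEquiv, Nat.card_prod, D.card_B6, Nat.card_zpowers, hs] at h1
  exact h1

include D in
theorem noTwo : NoTwo L 7 := by
  have hfin := D.finite
  have hB : ¬ 7 ∣ Nat.card (centralizer ({wB D} : Set L)) := by
    have h1 : 720 ∣ Nat.card (centralizer ({wB D} : Set L)) := dvd_720 D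
    have h2 := card_C D
    have h3 : 0 < Nat.card (centralizer ({wB D} : Set L)) := Nat.card_pos
    obtain ⟨m, hm⟩ := h1
    rw [hm] at h2 h3 ⊢
    intro h7
    have h8 : m ≤ 4 := by omega
    have h9 : 0 < m := by omega
    interval_cases m <;> omega
  have hA : ¬ 7 ∣ Nat.card (centralizer ({zA D} : Set L)) := by
    rcases D.inv2 (zA D) (zA_sq D) (zA_ne D) with ⟨c, hc⟩ | ⟨c, hc⟩
    · rw [card_conj hc.symm, D.card_centralizer]
      norm_num
    · -- `z` is conjugate to `zA`
      rcases inv_cases D D.z D.zz D.z1 with ⟨e, he⟩ | ⟨e, he⟩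
      · rw [← card_conj he, D.card_centralizer]
        norm_num
      · exfalso
        have h1 := card_conj he
        rw [D.card_centralizer] at h1
        have h2 := card_C D
        omega
  refine NoTwo.of_card fun u hu => ?_
  have hu2 : u * u = 1 := by rw [← pow_two, ← hu, pow_orderOf_eq_one]
  have hu1 : u ≠ 1 := by
    rintro rfl
    rw [orderOf_one] at hu
    omega
  rcases inv_cases D u hu2 hu1 with ⟨c, hc⟩ | ⟨c, hc⟩
  · rw [card_conj hc]; exact hA
  · rw [card_conj hc]; exact hB

/-- the word of the second involution -/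
def tw : List ℕ := [2, 2, 0, 2, 4, 2] ++ (g0w ++ iw [2, 2, 0, 2, 4, 2])

theorem tw_mem : hw tw ∈ K := mem_K_of_par (by decide) (by decide)

theorem g0w_mem : hw g0w ∈ K := g0_mem_K

/-- the word of the product -/
def pw : List ℕ := g0w ++ tw

include D in
theorem model : PairN L := by
  have hfin := D.finite
  refine PairN.of_two (r := 7) (by norm_num) (by norm_num) (s := D.π ⟨hw g0w, g0w_mem⟩) (t := D.π ⟨hw tw, tw_mem⟩)
    ?_ ?_ ?_ (noTwo D)
  · exact wB_sq D
  · rw [← map_mul, ← map_one D.π, pi_eq]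
    show φ (hw tw * hw tw) = φ 1
    rw [← hw_append, ← hw_nil]
    exact eqt_spec (by decide +kernel)
  · have : Fact (Nat.Prime 7) := ⟨by norm_num⟩
    have hp : D.π ⟨hw g0w, g0w_mem⟩ * D.π ⟨hw tw, tw_mem⟩ = D.π (⟨hw g0w, g0w_mem⟩ * ⟨hw tw, tw_mem⟩) :=
      (map_mul _ _ _).symm
    refine orderOf_eq_prime ?_ ?_
    · rw [hp, ← map_pow, ← map_one D.π, pi_eq]
      show φ ((hw g0w * hw tw) ^ 7) = φ 1
      rw [← hw_append, ← hw_nil]
      have e : hw (g0w ++ tw) ^ 7 = hw (pw ++ (pw ++ (pw ++ (pw ++ (pw ++ (pw ++ pw)))))) := by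
        simp only [hw_append, pow_succ, pow_zero, one_mul, pw, mul_assoc]
      rw [e]
      exact eqt_spec (by decide +kernel)
    · intro h
      rw [hp, ← map_one D.π, pi_eq] at h
      have h1 : φ (hw (g0w ++ tw)) = φ (hw []) := by rw [hw_append, hw_nil]; exact h
      rw [φ_eq_iff, ← hw_τ, ← hw_append] at h1
      rcases h1 with h1 | h1
      · exact absurd (eqw_of_hw_eq (by decide) (by decide) h1) (by decide +kernel)
      · exact absurd (eqw_of_hw_eq (by decide) (by decide) h1) (by decide +kernel)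

end

/-- **The row `HS`.** -/
theorem hs {K : Type*} [Group K] (h : Spor.IsoHS K) : PairN K := by
  obtain ⟨D⟩ := exists_mod h
  exact model D

end Cfsg.Agent.H729.PairHS

private theorem dce_a6c1aca10095 : _root_.True := by
  try have : _root_.True := by simp only [_root_.Cfsg.Agent.H729.PairHS.pw.eq_1]
  exact _root_.True.intro
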