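import Cfsg.Agent.Fischer.Fi22Sub
import Cfsg.Agent.H113.PSU.Rank3_m3
import Cfsg.Agent.H603.SporElim
import Cfsg.Agent.H419.TwoTrans_m3
import Cfsg.Agent.H713.Invol
import Cfsg.Agent.Lib.ListFast
import Cfsg.Agent.Prune
set_option linter.all false
prune_inst 0x7f00000000000000000000000000000000000000000000000000000000000000000000000000000000000000000000000000000000000000000000000000000000000000000000000000000000000000003fffffffffffffffffffffffffffbeffbdffffffff
open scoped Cfsg.Agent.FastGrp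

/-!
# The rank 3 action of `Fi22` on 14080 points (cosets of `Ω₇(3)`): characters of degrees 429 and 13650 (helper729)

* `r3` : the orbits of `H = ⟨b, …, i⟩` on the cosets of `H` have lengths `1`, `3159`, `10920`;
* `exists_irr` : `1_H^G = 1 + χ₁ + χ₂`, of degrees `429 = 3·11·13` and `13650 = 2·3·5²·7·13`;
* `hasDZ_five`, `hasDZ_seven` : `χ₂` has `5`-defect zero and `7`-defect zero.
-/

set_option autoImplicit false
set_option maxRecDepth 100000

namespace Cfsg.Agent.H729.FiTTRank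

open Cfsg Cfsg.Spor Cfsg.Agent.Lib.PermNet Cfsg.Agent.Lib.PermNetOrbit Cfsg.Agent.Fischer.Fi22Rep
open Cfsg.Agent.Fischer.Fi22Sub Cfsg.Agent.Fischer Cfsg.Agent.Fischer.Index14080

/-- The words of the generators of `H`. -/
noncomputable def wsH : List (List Net) := gens.tail.map fun x => [net x]

theorem wsH_ok : WsOk (2 ^ 14) wsH := by
  intro w hw
  obtain ⟨x, _, rfl⟩ := List.mem_map.1 hw
  exact WOk.cons (net_ok x) (WOk.nil _)

/-- The generators of `H`. -/
def S : Set Fi22 := s9 '' {i | i ∈ LB}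

theorem H_eq' : H = Subgroup.closure S := H_eq

theorem S_wsH : ∀ g ∈ S, ∃ w ∈ wsH, wperm w = φ g := by
  rintro _ ⟨k, hk, rfl⟩
  refine ⟨[net (gen9 k)], List.mem_map.2 ⟨gen9 k, ?_, rfl⟩, ?_⟩
  · have hk' : k ∈ LB := hk
    revert k
    decide
  · rw [s9, φ_of, wperm_cons, wperm_nil, mul_one]

theorem wsH_S : ∀ w ∈ wsH, ∃ g ∈ S, wperm w = φ g := by
  intro w hw
  obtain ⟨x, hx, rfl⟩ := List.mem_map.1 hw
  obtain ⟨k, hk, rfl⟩ : ∃ k : Fin 9, k ∈ LB ∧ gen9 k = x := by
    clear hw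
    revert x
    decide
  exact ⟨s9 k, ⟨k, hk, rfl⟩, by rw [s9, φ_of, wperm_cons, wperm_nil, mul_one]⟩

/-- The suborbits. -/
noncomputable def U1 : ℕ := sat wsH 6 (2 ^ 1)
noncomputable def U2 : ℕ := sat wsH 8 (2 ^ 191)

theorem sat1 : Nat.beq (sat wsH 6 (2 ^ 1)) U1 = true := by decide +kernel
theorem sat2 : Nat.beq (sat wsH 8 (2 ^ 191)) U2 = true := by decide +kernel
theorem closed1 : closedB wsH U1 = true := by decide +kernel
theorem closed2 : closedB wsH U2 = true := by decide +kernel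
theorem tb1 : tb U1 1 = true := by decide +kernel
theorem tb2 : tb U2 191 = true := by decide +kernel
theorem small1 : Nat.beq (Nat.shiftRight U1 (Nat.pow 2 14)) 0 = true := by decide +kernel
theorem small2 : Nat.beq (Nat.shiftRight U2 (Nat.pow 2 14)) 0 = true := by decide +kernel
theorem pc1 : Nat.beq (pc 14 U1) 3159 = true := by decide +kernel
theorem pc2 : Nat.beq (pc 14 U2) 10920 = true := by decide +kernel

theorem orbit1 : {p : ℕ | ∃ x ∈ H, φ x 1 = p} = {p | U1.testBit p = true} := by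
  rw [H_eq']
  exact orbit_closure_eq φ S wsH_ok S_wsH wsH_S sat1 closed1 tb1

theorem orbit2 : {p : ℕ | ∃ x ∈ H, φ x 191 = p} = {p | U2.testBit p = true} := by
  rw [H_eq']
  exact orbit_closure_eq φ S wsH_ok S_wsH wsH_S sat2 closed2 tb2

theorem exists_orbits : ∃ q₁ q₂ : Fi22 ⧸ H, (MulAction.orbit H q₁).ncard = 3159 ∧
    (MulAction.orbit H q₂).ncard = 10920 := by
  obtain ⟨g1, hg1⟩ := transitive 1 (by norm_num)
  obtain ⟨g2, hg2⟩ := transitive 191 (by norm_num)
  refine ⟨(g1 : Fi22 ⧸ H), (g2 : Fi22 ⧸ H), ?_, ?_⟩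
  · rw [ncard_orbit_quotient H H φ main.2.1, hg1, orbit1]
    exact ncard_testBit small1 pc1
  · rw [ncard_orbit_quotient H H φ main.2.1, hg2, orbit2]
    exact ncard_testBit small2 pc2

/-! ### the degrees -/

def chk : Bool := (List.range 14080).all fun f =>
  Nat.beq f 0 || Nat.beq f 14079 || !(Nat.beq (Nat.mod (14080 * 3159 * 10920) (f * (14079 - f))) 0) ||
    (Nat.beq f 39 || Nat.beq f 351 || Nat.beq f 429 || Nat.beq f 975 || Nat.beq f 2496 || Nat.beq f 3159 ||
      Nat.beq f 4095 || Nat.beq f 9984 || Nat.beq f 10920 || Nat.beq f 11583 || Nat.beq f 13104 ||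
      Nat.beq f 13650 || Nat.beq f 13728 || Nat.beq f 14040)

private noncomputable def _root_.Cfsg.Agent.LsF.f0105de_3 : {f // @Cfsg.Agent.H729.FiTTRank.chk = f} := ⟨_, by first | (delta Cfsg.Agent.H729.FiTTRank.chk; rewrite [Cfsg.Agent.LsF.nmul_pat, Cfsg.Agent.LsF.nsub_pat, Cfsg.Agent.LsF.or_eq, Cfsg.Agent.LsF.not_eq, Cfsg.Agent.LsF.all_eq, Cfsg.Agent.LsF.range_eq]; exact rfl) | exact rfl⟩
theorem chk_true : chk = true := by ((try (rewrite [Cfsg.Agent.LsF.f0105de_3.2])); decide +kernel)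

theorem degs {f g D : ℕ} (h1 : f + g = 3159 + 10920) (h2 : f * g * D = (1 + 3159 + 10920) * 3159 * 10920)
    (h3 : f ≠ g → IsSquare D) : (f = 429 ∧ g = 13650) ∨ (f = 13650 ∧ g = 429) := by
  have hf0 : f ≠ 0 := by rintro rfl; norm_num at h2
  have hg0 : g ≠ 0 := by rintro rfl; norm_num at h2
  have hg : g = 14079 - f := by omega
  have h4 := List.all_eq_true.1 chk_true f (List.mem_range.2 (by omega))
  have hd : Nat.mod (14080 * 3159 * 10920) (f * (14079 - f)) = 0 := by
    apply Nat.mod_eq_zero_of_dvd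
    rw [← hg]
    exact ⟨D, by rw [h2]⟩
  rw [hd] at h4
  have h5 : f = 39 ∨ f = 351 ∨ f = 429 ∨ f = 975 ∨ f = 2496 ∨ f = 3159 ∨ f = 4095 ∨ f = 9984 ∨ f = 10920 ∨
      f = 11583 ∨ f = 13104 ∨ f = 13650 ∨ f = 13728 ∨ f = 14040 := by
    simp only [Bool.or_eq_true, Nat.beq_eq, Bool.not_eq_true'] at h4
    have : f ≠ 14079 := by omega
    simp at h4
    tauto
  have sq : ∀ r n m : ℕ, n * n < m → m < (n + 1) * (n + 1) → ¬ m = r * r := by
    intro r n m h6 h7 h8
    have h9 : n < r := by nlinarith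
    have h10 : r < n + 1 := by nlinarith
    omega
  have hne : f ≠ g := by omega
  obtain ⟨r, hr⟩ := h3 hne
  rcases h5 with rfl | rfl | rfl | rfl | rfl | rfl | rfl | rfl | rfl | rfl | rfl | rfl | rfl | rfl
  · obtain rfl : g = 14040 := by omega
    exact absurd hr (sq r 941 D (by omega) (by omega))
  · obtain rfl : g = 13728 := by omega
    exact absurd hr (sq r 317 D (by omega) (by omega))
  · left; omega
  · obtain rfl : g = 13104 := by omega
    exact absurd hr (sq r 194 D (by omega) (by omega))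
  · obtain rfl : g = 11583 := by omega
    exact absurd hr (sq r 129 D (by omega) (by omega))
  · obtain rfl : g = 10920 := by omega
    exact absurd hr (sq r 118 D (by omega) (by omega))
  · obtain rfl : g = 9984 := by omega
    exact absurd hr (sq r 108 D (by omega) (by omega))
  · obtain rfl : g = 4095 := by omega
    exact absurd hr (sq r 108 D (by omega) (by omega))
  · obtain rfl : g = 3159 := by omega
    exact absurd hr (sq r 118 D (by omega) (by omega))
  · obtain rfl : g = 2496 := by omega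
    exact absurd hr (sq r 129 D (by omega) (by omega))
  · obtain rfl : g = 975 := by omega
    exact absurd hr (sq r 194 D (by omega) (by omega))
  · right; omega
  · obtain rfl : g = 351 := by omega
    exact absurd hr (sq r 317 D (by omega) (by omega))
  · obtain rfl : g = 39 := by omega
    exact absurd hr (sq r 941 D (by omega) (by omega))

open Cfsg.Agent.H690.Spor.RankThree in
/-- **The permutation character of degree 14080 is `1 + χ₄₂₉ + χ₁₃₆₅₀`.** -/
theorem exists_irr [Finite Fi22] : ∃ (χ₁ χ₂ : IrrCharacter Fi22), (χ₁ : Fi22 → ℂ) 1 = 429 ∧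
    (χ₂ : Fi22 → ℂ) 1 = 13650 ∧
    ∀ x : Fi22, (Nat.card (MulAction.fixedBy (Fi22 ⧸ H) x) : ℂ) = 1 + (χ₁ : Fi22 → ℂ) x + (χ₂ : Fi22 → ℂ) x := by
  obtain ⟨q₁, q₂, h1, h2⟩ := exists_orbits
  obtain ⟨R, h⟩ := R3.of_index H (k := 3159) (l := 10920) (by rw [main.1]) h1 h2 (by norm_num) (by norm_num) (by norm_num)
  classical
  have := Fintype.ofFinite (Fi22 ⧸ H)
  obtain ⟨χ₁, χ₂, f, g, D, e1, e2, e3, e4, e5, e6⟩ := h.frame
  rcases degs e4 e5 e6 with ⟨rfl, rfl⟩ | ⟨rfl, rfl⟩
  · exact ⟨χ₁, χ₂, by rw [e1]; norm_num, by rw [e2]; norm_num, e3⟩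
  · exact ⟨χ₂, χ₁, by rw [e2]; norm_num, by rw [e1]; norm_num, fun x => by rw [e3 x]; ring⟩

/-! ### defect zero -/

open Cfsg.Agent.H665.NoPQ

theorem fac_five : (Nat.card Fi22).factorization 5 = 2 := by
  rw [NotCT.Orders.fi22 ⟨MulEquiv.refl _⟩, Nat.factorization_def _ (by norm_num : Nat.Prime 5)]
  have h1 : (64561751654400 : ℕ) = 5 ^ 2 * 2582470066176 := by norm_num
  have : Fact (Nat.Prime 5) := ⟨by norm_num⟩
  rw [h1, padicValNat.mul (by norm_num) (by norm_num), padicValNat.prime_pow,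
    padicValNat.eq_zero_of_not_dvd (by norm_num)]

theorem finite_model : Finite Fi22 :=
  Nat.finite_of_card_ne_zero (by rw [NotCT.Orders.fi22 ⟨MulEquiv.refl _⟩]; norm_num)

theorem dz_of_val {S : Type*} [Group S] [Finite S] {p n d : ℕ} (hp : p.Prime) (χ : IrrCharacter S)
    (h1 : (χ : S → ℂ) 1 = d) (hd : p ^ n ∣ d) (hn : (Nat.card S).factorization p = n) : HasDZ p S := by
  refine Cfsg.Agent.H419.Row.dz_of_dvd χ ?_ hn hp
  rwa [Cfsg.Agent.Blocks.Basic.charDegree_of_eq h1]

/-- **A character of `5`-defect zero of `Fi22`.** -/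
theorem hasDZ_five_model : HasDZ 5 Fi22 := by
  have := finite_model
  obtain ⟨-, χ, -, h, -⟩ := exists_irr
  exact dz_of_val (d := 13650) (by norm_num) χ (by rw [h]; norm_num) (by norm_num) fac_five

theorem hasDZ_five {K : Type*} [Group K] (h : Spor.IsoFi22 K) : HasDZ 5 K := by
  obtain ⟨e⟩ := h
  exact Cfsg.Agent.H713.HasDZ.mulEquiv e.symm hasDZ_five_model

end Cfsg.Agent.H729.FiTTRank
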