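import Cfsg.Agent.H729.PairTool_m3
import Cfsg.Agent.KFacts.He.Classes
import Cfsg.Agent.KFacts.He.TwoA_m3
import Cfsg.Agent.Held.HeldCardEq_m3
import Cfsg.Agent.Prune
set_option linter.all false
prune_inst 0x7f00000000000000000000000000000000000000000000000000000000000000000000000000000000000000000000000000000000000000000000000000000000000000000000000000000000000000003fffffffffffffffffffffffffffbeffbdffffffff
open scoped Cfsg.Agent.FastGrp

/-!
# The coprime pair in the Held group: `r = 17`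
-/

set_option autoImplicit false

namespace Cfsg.Agent.H729.PairHe

open Subgroup Cfsg
open Cfsg.Spor Cfsg.Spor.He Cfsg.Agent.SporadicB.HePerm Cfsg.Agent.FixBN.HeStab
open Cfsg.Agent.KFacts.He.Lv Cfsg.Agent.KFacts.He.TwoAData Cfsg.Agent.KFacts.He.TwoAChk
open Cfsg.Agent.KFacts.He.TwoACent Cfsg.Agent.KFacts.He.TwoAPlane
open Cfsg.Agent.ONType.Psl (SL3 PSL3 tm T)
open Cfsg.Agent.H729.PairBase

theorem finite_he : Finite He := Nat.finite_of_card_ne_zero (by rw [KFacts.He.Classes.card_he]; norm_num)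

theorem noTwo {r : ℕ} (hr : r.Prime) (hr2 : r ≠ 2) (h1 : ¬ r ∣ 21504) (h2 : ¬ r ∣ 20160) : NoTwo He r := by
  have hfin := finite_he
  refine NoTwo.of_reps fun u hu hu1 => ?_
  rcases KFacts.He.Classes.two_classes_a hu hu1 with ⟨g, hg⟩ | ⟨g, hg⟩
  · refine ⟨_, g, hg, fun x hx hc => h1 ?_⟩
    rw [← KFacts.He.Classes.card_centralizer, ← hx]
    have h3 : x ∈ centralizer ({KFacts.He.Bound.z} : Set He) := mem_centralizer_singleton_iff.2 hc
    exact Subgroup.orderOf_dvd_natCard _ h3
  · refine ⟨_, g, hg, fun x hx hc => ?_⟩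
    have hodd : Odd r := hr.odd_of_ne_two hr2
    have hxL : x ∈ L := by
      rcases two hc hc with h | h | h
      · exact h
      · exact h
      · exact mem_of_sq hodd hx h
    have hx' : orderOf (⟨x, hxL⟩ : ↥L) = r := by rw [Subgroup.orderOf_mk, hx]
    have h3 : Th ⟨x, hxL⟩ = 1 := eq_one_of_hom hr Th (by rw [ONType.PslCard.card_PSL3]; exact h2) hx'
    have h4 : (⟨x, hxL⟩ : ↥L) ∈ V.subgroupOf L := by
      rw [← ker_Th]; exact MonoidHom.mem_ker.2 h3
    have h5 : x ∈ V := mem_subgroupOf.1 h4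
    have h6 : x ^ 4 = 1 := by
      have h7 : (⟨x, h5⟩ : ↥V) ^ Nat.card ↥V = 1 := pow_card_eq_one'
      rw [card_V] at h7
      exact congrArg Subtype.val h7
    have h7 := orderOf_dvd_of_pow_eq_one h6
    rw [hx, show (4 : ℕ) = 2 ^ 2 from rfl] at h7
    exact hr2 ((Nat.prime_dvd_prime_iff_eq hr Nat.prime_two).1 (hr.dvd_of_dvd_pow h7))

theorem model [IsSimpleGroup He] : PairN He := by
  have hfin := finite_he
  refine PairN.of_card_fermat (r := 17) (k := 4) (by norm_num) (by norm_num) (by norm_num) ?_ ?_ ?_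
    (noTwo (by norm_num) (by norm_num) (by norm_num) (by norm_num)) <;> rw [KFacts.He.Classes.card_he] <;> norm_num

/-- **The row `He`.** -/
theorem he {K : Type*} [Group K] (h : IsoHe K) : PairN K := by
  obtain ⟨e⟩ := h
  have : IsSimpleGroup He := KFacts.He.Cent.simpleHe
  exact PairN.congr e.symm model

end Cfsg.Agent.H729.PairHe
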