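import Cfsg.Agent.H729.PairTool_m3
import Cfsg.Agent.Cit.Eleven
import Cfsg.Agent.SporadicA.M11Facts
import Cfsg.Agent.Prune
set_option linter.all false
prune_inst 0x7f00000000000000000000000000000000000000000000000000000000000000000000000000000000000000000000000000000000000000000000000000000000000000000000000000000000000000003fffffffffffffffffffffffffffbeffbdffffffff
open scoped Cfsg.Agent.FastGrp

/-! # The coprime pair in `M11` -/

set_option autoImplicit false

namespace Cfsg.Agent.H729.PairM11

open Cfsg PairBase

variable {K : Type*} [Group K]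

theorem noTwo (h : Spor.IsoM11 K) : NoTwo K 5 := by
  have hG := Cit.Eleven.isM11 h
  have : Finite K := Nat.finite_of_card_ne_zero (by rw [hG.2]; norm_num)
  exact NoTwo.of_card fun u hu => SporadicA.M11Facts.not_five_dvd_centralizer hG hu

theorem pairN (h : Spor.IsoM11 K) : PairN K := by
  have hG := Cit.Eleven.isM11 h
  have : Finite K := Nat.finite_of_card_ne_zero (by rw [hG.2]; norm_num)
  have := hG.1
  exact PairN.of_card_fermat (r := 5) (k := 2) (by norm_num) (by norm_num) (by norm_num)
    (by rw [hG.2]; norm_num) (by rw [hG.2]; norm_num) (by rw [hG.2]; norm_num) (noTwo h)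

end Cfsg.Agent.H729.PairM11
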