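import Cfsg.Agent.H729.PairTool_m3
import Cfsg.Agent.H101.RealOdd
import Cfsg.Agent.FastGrp
import Cfsg.Agent.Prune
set_option linter.all false
prune_inst 0x7f00000000000000000000000000000000000000000000000000000000000000000000000000000000000000000000000000000000000000000000000000000000000000000000000000000000000000003fffffffffffffffffffffffffffbeffbdffffffff
open scoped Cfsg.Agent.FastGrp

/-!
# Criteria for `RealOdd` (S2248, helper729)

The criteria of `PairBase` for `H101.RO.RealOdd` instead of `PairN`.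
-/

set_option autoImplicit false

namespace Cfsg.Agent.H729.RealBase

open Cfsg Cfsg.Agent.H729.PairBase Subgroup Cfsg.Agent.H101.RO

variable {S : Type*} [Group S] [Finite S]

/-- **Criterion.** `|C(x)|` odd and `|N(⟨x⟩)|` even. -/
theorem of_odd_even {r : ℕ} (hr : r.Prime) (hr2 : r ≠ 2) {x : S} (hx : orderOf x = r)
    (hC : ¬ 2 ∣ Nat.card (centralizer ({x} : Set S)))
    (hN : 2 ∣ Nat.card (normalizer ((zpowers x : Subgroup S) : Set S))) : RealOdd S :=
  RealOdd.of_norm_even hr hr2 le_rfl (by rw [hx, pow_one]) hN (by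
    rw [← Nat.not_even_iff_odd, even_iff_two_dvd]
    exact hC)

theorem of_even {r : ℕ} (hr : r.Prime) (hr2 : r ≠ 2) {x : S} (hx : orderOf x = r)
    (hN : 2 ∣ Nat.card (normalizer ((zpowers x : Subgroup S) : Set S))) (hC : NoTwo S r) : RealOdd S :=
  of_odd_even hr hr2 hx (hC.odd_cent hx) hN

/-- **Criterion.** `x` of order `r`, `y` an involution normalizing `⟨x⟩`, `|C(x)|` odd. -/
theorem of_odd {r : ℕ} (hr : r.Prime) (hr2 : r ≠ 2) {x y : S} (hx : orderOf x = r)
    (hy : orderOf y = 2) (hn : y ∈ normalizer ((zpowers x : Subgroup S) : Set S))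
    (hC : ∀ u : S, orderOf u = 2 → ¬ Commute u x) : RealOdd S := by
  refine of_odd_even hr hr2 hx (fun h2 => ?_) ?_
  · have : Fact (Nat.Prime 2) := ⟨Nat.prime_two⟩
    obtain ⟨g, hg⟩ := exists_prime_orderOf_dvd_card' 2 h2
    exact hC g (by rw [orderOf_coe, hg]) (mem_centralizer_singleton_iff.1 g.2)
  · have h1 : orderOf (⟨y, hn⟩ : normalizer ((zpowers x : Subgroup S) : Set S)) = 2 := by rw [orderOf_mk, hy]
    exact h1 ▸ orderOf_dvd_natCard _

/-- **Criterion.** An involution inverts an element of order `r`. -/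
theorem of_inv {r : ℕ} (hr : r.Prime) (hr2 : r ≠ 2) {x y : S} (hx : orderOf x = r)
    (hn : y * x * y⁻¹ = x⁻¹) (hC : NoTwo S r) : RealOdd S :=
  RealOdd.of_elts (y := y) (k := 1) hr hr2 le_rfl (by rw [hx, pow_one]) hn fun t ht h => hC t x ht hx h

/-- **Criterion.** Two involutions whose product has order `r`. -/
theorem of_two {r : ℕ} (hr : r.Prime) (hr2 : r ≠ 2) {s t : S} (hs : s * s = 1)
    (ht : t * t = 1) (h : orderOf (s * t) = r) (hC : NoTwo S r) : RealOdd S := by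
  have hsi : s⁻¹ = s := inv_eq_of_mul_eq_one_left hs
  have hti : t⁻¹ = t := inv_eq_of_mul_eq_one_left ht
  refine of_inv (y := s) hr hr2 h ?_ hC
  rw [hsi, mul_inv_rev, hsi, hti]
  calc s * (s * t) * s = (s * s) * t * s := by group
    _ = t * s := by rw [hs, one_mul]

/-- **Criterion.** `x` of order `r` generates its centralizer, `f` normalizes `⟨x⟩` and `f ^ m` is an involution. -/
theorem of_gen {r k m : ℕ} (hr : r.Prime) (hr2 : r ≠ 2) {x f : S} (hx : orderOf x = r)
    (hf : f ^ (2 * m) = 1) (hf1 : f ^ m ≠ 1) (hfx : f * x * f⁻¹ = x ^ k)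
    (hC : ∀ c : S, c * x = x * c → ∃ i : ℕ, c = x ^ i) : RealOdd S := by
  refine of_odd hr hr2 (y := f ^ m) hx ?_ (pow_mem (mem_normalizer_of_conj_pow hfx) m) ?_
  · exact orderOf_eq_prime (hp := ⟨Nat.prime_two⟩) (by rw [← pow_mul, mul_comm, hf]) hf1
  · intro u hu hc
    obtain ⟨i, rfl⟩ := hC u hc
    have h1 : orderOf (x ^ i) ∣ orderOf x := orderOf_pow_dvd i
    rw [hu, hx] at h1
    exact hr2 ((Nat.prime_dvd_prime_iff_eq Nat.prime_two hr).1 h1).symm

/-- **Criterion.** `S` simple, `r` a Fermat prime dividing `|S|` exactly once, no element of order `2 r`. -/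
theorem of_card_fermat [IsSimpleGroup S] {r k : ℕ} (hr : r.Prime) (hk : r - 1 = 2 ^ k)
    (hr2 : r ≠ 2) (h1 : r ∣ Nat.card S) (h2 : ¬ r ^ 2 ∣ Nat.card S) (hne : Nat.card S ≠ r) (hC : NoTwo S r) :
    RealOdd S := by
  obtain ⟨x, e, n, hx, he, he1, -, hN, -, -⟩ := exists_data hr h1 h2 hne
  refine of_even hr hr2 hx ?_ hC
  rw [hN]
  refine dvd_mul_of_dvd_right ?_ _
  rw [hk] at he
  obtain ⟨j, hj, rfl⟩ := (Nat.dvd_prime_pow Nat.prime_two).1 he
  refine dvd_pow_self 2 ?_
  rintro rfl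
  exact he1 (pow_zero 2)

/-- **Criterion.** `S` simple, `r` divides `|S| = r m` exactly once, no element of order `2 r`, and for every possible
`c` (`|C(x)| = r c`) no odd divisor `e ≠ 1` of `r - 1` satisfies `c e = m` modulo `r`. -/
theorem of_card_cent [IsSimpleGroup S] {r m : ℕ} (hr : r.Prime) (hr2 : r ≠ 2)
    (hm : Nat.card S = r * m) (hm2 : ¬ r ∣ m) (hm1 : m ≠ 1) (hC : NoTwo S r)
    (Pc : ℕ → Prop) (hPc : ∀ x : S, orderOf x = r → ∀ c, Nat.card (centralizer ({x} : Set S)) = r * c → Pc c)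
    (har : ∀ c, Pc c → ∀ e, e ∣ r - 1 → e ≠ 1 → ¬ 2 ∣ e → (c * e) % r ≠ m % r) :
    RealOdd S := by
  have hr0 : 0 < r := hr.pos
  have h2 : ¬ r ^ 2 ∣ Nat.card S := by
    rw [hm, pow_two]
    exact fun h => hm2 (Nat.dvd_of_mul_dvd_mul_left hr0 h)
  have hne : Nat.card S ≠ r := by
    rw [hm]
    intro h
    exact hm1 (by nlinarith [Nat.eq_of_mul_eq_mul_left hr0 (h.trans (mul_one r).symm)])
  obtain ⟨x, e, n, hx, he, he1, hn, hN, hS, hd⟩ := exists_data hr (hm ▸ dvd_mul_right r m) h2 hne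
  refine of_even hr hr2 hx ?_ hC
  rw [hN]
  refine dvd_mul_of_dvd_right ?_ _
  by_contra h
  obtain ⟨c, hc⟩ := hd
  refine har c (hPc x hx c hc) e he he1 h ?_
  rw [hm, hc] at hS
  have h3 : m = n * (c * e) := by
    apply Nat.eq_of_mul_eq_mul_left hr0
    rw [hS]; ring
  rw [h3, Nat.mul_mod n, hn, one_mul, Nat.mod_mod]

/-- from one subgroup of order `r` -/
theorem of_sub {r : ℕ} (hr : r.Prime) (hr2 : r ≠ 2) (hd : r ∣ Nat.card S)
    (hC : ∀ P : Subgroup S, Nat.card P = r → ¬ 2 ∣ Nat.card (centralizer (P : Set S)))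
    (hN : ∀ P : Subgroup S, Nat.card P = r → 2 ∣ Nat.card (normalizer (P : Set S))) : RealOdd S := by
  have : Fact r.Prime := ⟨hr⟩
  obtain ⟨x, hx⟩ := exists_prime_orderOf_dvd_card' r hd
  have hP : Nat.card (zpowers x) = r := by rw [Nat.card_zpowers, hx]
  have h1 := hC _ hP
  rw [centralizer_zpowers_eq] at h1
  exact of_odd_even hr hr2 hx h1 (hN _ hP)

end Cfsg.Agent.H729.RealBase
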