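import Cfsg.Agent.H680.Cov.SU6.Res_m3
import Cfsg.Agent.H264.FKS.ResCore
import Cfsg.Agent.H264.FKS.Res_m3
import Cfsg.Agent.H884.CxMain_m3
import Cfsg.Agent.H481.TBound
import Cfsg.Agent.H55.OutGen
import Cfsg.Agent.S1625
import Cfsg.Agent.S2067
import Cfsg.Agent.Prune
set_option linter.all false
prune_inst 0x7f00000000000000000000000000000000000000000000000000000000000000000000000000000000000000000000000000000000000000000000000000000000000000000000000000000000000000003fffffffffffffffffffffffffffbeffbdffffffff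
open scoped Cfsg.Agent.FastGrp

/-!
# S2499, COV-SU9: `PSU_9(q)` is not the union of the conjugates of two proper subgroups (helper729)

`noTwo_psu_nine` : from the residual class `Res9` (the statement of S5833).
-/

set_option autoImplicit false
set_option linter.unusedSectionVars false

namespace Cfsg.Agent.H729.CovSU9

open Cfsg Cfsg.Geo Module Cfsg.Agent.H251.GeoCard Cfsg.Agent.H951 Cfsg.Agent.H251.GeoU
open Cfsg.Agent.H278.Cov (Av NoTwo noTwo_of_coatom av_of_card)
open Cfsg.Agent.H436 Cfsg.Agent.H915.GN Cfsg.Agent.OrdDiv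
open Cfsg.Agent.H729.CovU
open scoped Matrix MatrixGroups

/-- the residual class of `SU_9(q)`: the conclusion of S5833 -/
def Res9 (F : Type) [Field F] [Fintype F] (q : ℕ) : Prop :=
  ∀ H : Subgroup (Matrix.GeneralLinearGroup (Fin 9) F),
    Cfsg.Geo.IsMaximalIn (Cfsg.GU 9 F q ⊓ Cfsg.Geo.specialLinear (Fin 9) F) H →
    Cfsg.Geo.InUnitaryResidualClass H →
    ∃ P : Subgroup (Matrix.GeneralLinearGroup (Fin 9) F), Cfsg.Geo.IsResidualCore H P ∧
    ((Nonempty ((P ⧸ (Cfsg.Geo.scalars (Fin 9) F).subgroupOf P) ≃*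
        Matrix.ProjectiveSpecialLinearGroup (Fin 2) (ZMod 19)) ∧ q.Prime ∧ q ≠ 2 ∧
        (q % 19 = 2 ∨ q % 19 = 3 ∨ q % 19 = 8 ∨ q % 19 = 10 ∨ q % 19 = 12 ∨ q % 19 = 13 ∨ q % 19 = 14 ∨
          q % 19 = 15 ∨ q % 19 = 18)) ∨
     (Cfsg.Spor.IsoJ3 (P ⧸ (Cfsg.Geo.scalars (Fin 9) F).subgroupOf P) ∧ q = 2) ∨
     Nonempty ((P ⧸ (Cfsg.Geo.scalars (Fin 9) F).subgroupOf P) ≃* Matrix.ProjectiveSpecialLinearGroup (Fin 3) F))

/-- a prime divisor of a group with simple normal self-centralising subgroup `S` divides `|Out S|` or `|S|` -/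
theorem dvd_or {R : Type} [Group R] [Finite R] (S : Subgroup R) [S.Normal] [IsSimpleGroup S]
    (hna : ¬ IsMulCommutative S) (hC : Subgroup.centralizer (S : Set R) = ⊥) {r : ℕ} (hr : r.Prime)
    (h : r ∣ Nat.card R) : r ∣ Nat.card (Cfsg.Out S) ∨ r ∣ Nat.card S := by
  have h2 := h.trans (H264.FKS.dvd_aut S hC)
  rw [← H934.OutB.card_out_mul S hna] at h2
  exact hr.dvd_mul.1 h2

theorem not_comm' {S : Type} [Group S] (hna : ¬ IsMulCommutative S) : ¬ ∀ a b : S, a * b = b * a :=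
  fun h => hna ⟨⟨h⟩⟩

/-- `L_2(19)` -/
theorem l219 {S : Type} [Group S] [Finite S] [IsSimpleGroup S] (hna : ¬ IsMulCommutative S)
    (e : S ≃* Matrix.ProjectiveSpecialLinearGroup (Fin 2) (ZMod 19)) {r : ℕ} (hr : r.Prime) (h5 : 5 ≤ r)
    (h : r ∣ Nat.card (Cfsg.Out S) ∨ r ∣ Nat.card S) : r = 5 ∨ r = 19 := by
  have : Fact (Nat.Prime 19) := ⟨by norm_num⟩
  have hc : Fintype.card (ZMod 19) = 19 := ZMod.card 19
  have heq : den (.psl 2 19) * Nat.card S = num (.psl 2 19) := by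
    rw [Nat.card_congr e.toEquiv]
    have h1 := psl_eq (F := ZMod 19) (n := 2) le_rfl
    rw [hc] at h1
    exact h1
  have hS : IsNamed (.psl 2 19) S :=
    .mk' ⟨ZMod 19, inferInstance, inferInstance, hc, ⟨e⟩⟩
      ⟨le_rfl, fun _ => by norm_num, (show Nat.Prime 19 by norm_num).isPrimePow⟩ heq
  have hcard : Nat.card S = 3420 := by
    have h1 : den (.psl 2 19) = 36 := by decide +kernel
    have h2 : num (.psl 2 19) = 123120 := by decide +kernel
    rw [h1, h2] at heq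
    omega
  have h1 : r ∣ Nat.card S := by
    rcases h with h | h
    · rcases Cfsg.Agent.H884.Cx.dvd_of_out' (not_comm' hna) (s := 19) (by norm_num) hS ⟨1, by norm_num⟩ hr h5 h with
        h1 | h1
      · exact h1
      · have := Nat.le_of_dvd one_pos (h1 1 (by rw [pow_one]; rfl))
        omega
    · exact h
  rw [hcard, show 3420 = 2 ^ 2 * 3 ^ 2 * (5 * 19) by norm_num] at h1
  rcases hr.dvd_mul.1 h1 with h1 | h1
  · exfalso
    rcases hr.dvd_mul.1 h1 with h1 | h1
    · have := Nat.le_of_dvd (by norm_num) (hr.dvd_of_dvd_pow h1); omega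
    · have := Nat.le_of_dvd (by norm_num) (hr.dvd_of_dvd_pow h1); omega
  · rcases hr.dvd_mul.1 h1 with h1 | h1
    · exact Or.inl ((Nat.prime_dvd_prime_iff_eq hr (by norm_num)).1 h1)
    · exact Or.inr ((Nat.prime_dvd_prime_iff_eq hr (by norm_num)).1 h1)

/-- `J_3` -/
theorem j3 {S : Type} [Group S] [Finite S] (hS : Spor.IsoJ3 S) {r : ℕ} (hr : r.Prime) (h5 : 5 ≤ r)
    (h : r ∣ Nat.card (Cfsg.Out S) ∨ r ∣ Nat.card S) : r = 5 ∨ r = 17 ∨ r = 19 := by
  obtain ⟨F, _, _, ω, hF, hω, ⟨e⟩⟩ := hS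
  have hcard : Nat.card S = 50232960 := by rw [Nat.card_congr e.toEquiv, (S1625.result F hF ω hω).2.2.1]
  have hout : Nat.card (Cfsg.Out S) = 2 := by rw [H55.OutGen.card_out_congr e, S2067.result hF ω hω]
  rw [hcard, hout] at h
  rcases h with h1 | h1
  · have := Nat.le_of_dvd (by norm_num) h1; omega
  · rw [show 50232960 = 2 ^ 7 * 3 ^ 5 * (5 * (17 * 19)) by norm_num] at h1
    rcases hr.dvd_mul.1 h1 with h1 | h1
    · exfalso
      rcases hr.dvd_mul.1 h1 with h1 | h1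
      · have := Nat.le_of_dvd (by norm_num) (hr.dvd_of_dvd_pow h1); omega
      · have := Nat.le_of_dvd (by norm_num) (hr.dvd_of_dvd_pow h1); omega
    · rcases hr.dvd_mul.1 h1 with h1 | h1
      · exact Or.inl ((Nat.prime_dvd_prime_iff_eq hr (by norm_num)).1 h1)
      · rcases hr.dvd_mul.1 h1 with h1 | h1
        · exact Or.inr (Or.inl ((Nat.prime_dvd_prime_iff_eq hr (by norm_num)).1 h1))
        · exact Or.inr (Or.inr ((Nat.prime_dvd_prime_iff_eq hr (by norm_num)).1 h1))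

/-- `L_3(q²)` in its own characteristic -/
theorem l3 {F : Type} [Field F] [Fintype F] {q p f m s : ℕ} (hF : Fintype.card F = q ^ 2) (hp : p.Prime)
    (hq : q = p ^ f) (hf : 1 ≤ f) {S : Type} [Group S] [Finite S] [IsSimpleGroup S] (hna : ¬ IsMulCommutative S)
    (e : S ≃* Matrix.ProjectiveSpecialLinearGroup (Fin 3) F) (hs : s.Prime)
    (hord : orderOf (-(q : ZMod s)) = m) (hm : Odd m) (hm3 : 3 < m) (hbig : 2 * m * f ∣ s - 1)
    (h : s ∣ Nat.card (Cfsg.Out S) ∨ s ∣ Nat.card S) : False := by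
  have hlt : 2 * m * f < s := by
    have := Nat.le_of_dvd (by have := hs.two_le; omega) hbig
    have := hs.two_le
    omega
  have h8 : 8 * f ≤ 2 * m * f := Nat.mul_le_mul_right _ (by omega)
  have hq1 : 1 < q := q_one_lt hF
  have hS : IsNamed (.psl 3 (Fintype.card F)) S :=
    .mk' ⟨F, inferInstance, inferInstance, rfl, ⟨e⟩⟩
      ⟨by norm_num, fun h => by omega, Fintype.isPrimePow_card_of_field⟩ (by
        rw [Nat.card_congr e.toEquiv]
        exact psl_eq (by norm_num))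
  have hS' : ¬ s ∣ Nat.card S := by
    intro h1
    rw [Nat.card_congr e.toEquiv] at h1
    have h2 : s ∣ Nat.card (GL (Fin 3) F) := by
      refine (h1.trans (Subgroup.card_quotient_dvd_card _)).trans ?_
      rw [Nat.card_congr (Equiv.ofInjective _ (Matrix.SpecialLinearGroup.toGL_injective (n := Fin 3) (R := F)))]
      exact Subgroup.card_subgroup_dvd_card (Matrix.SpecialLinearGroup.toGL (n := Fin 3) (R := F)).range
    have hsq := not_dvd_of_ord hs hord (by omega)
    have h3 := div_of_dvd_card_fin hs (not_dvd_card hF hs hsq) h2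
    rw [nat_card_eq hF] at h3
    have h4 := ord_le_of_div (Nat.one_le_pow _ _ (by omega)) h3
    rw [ord_sq_odd hord hm] at h4
    omega
  rcases h with h | h
  · have hch : Fintype.card F = p ^ (f * 2) := by rw [hF, hq, pow_mul]
    rcases Cfsg.Agent.H884.Cx.dvd_of_out' (not_comm' hna) hp hS ⟨f * 2, hch⟩ hs (by omega) h with h1 | h1
    · exact hS' h1
    · have := Nat.le_of_dvd (by omega) (h1 (f * 2) hch)
      omega
  · exact hS' h

/-- **COV-SU9**, from the residual class -/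
theorem noTwo_psu_nine {F : Type} [Field F] [Fintype F] {q : ℕ} (hF : Fintype.card F = q ^ 2) (hres : Res9 F q) :
    NoTwo (PSU 9 F q) := by
  have hfin : Finite (PSU 9 F q) := Quotient.finite _
  obtain ⟨p, f, hp, hf, hq, hpF⟩ := exists_prime_power hF
  obtain ⟨s9, hs9, hi9, hb9, ho9⟩ := exists_big (m := 9) hp hf (by norm_num) (by decide) (by omega)
  obtain ⟨s7, hs7, hi7, hb7, ho7⟩ := exists_big (m := 7) hp hf (by norm_num) (by decide) (by omega)
  obtain ⟨s5, hs5, hi5, hb5, ho5⟩ := exists_big (m := 5) hp hf (by norm_num) (by decide) (by omega)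
  obtain ⟨s4, hs4, ho4, -, -, -⟩ := H149.NegPrime.exists_neg_prime (i := 4) hp hq hf (by norm_num) (by omega)
  rw [← hq] at ho9 ho7 ho5
  have hl9 : 18 * f < s9 := by
    have := Nat.le_of_dvd (by have := hs9.two_le; omega) hb9
    have := hs9.two_le
    omega
  have hl7 : 14 * f < s7 := by
    have := Nat.le_of_dvd (by have := hs7.two_le; omega) hb7
    have := hs7.two_le
    omega
  have hl5 : 10 * f < s5 := by
    have := Nat.le_of_dvd (by have := hs5.two_le; omega) hb5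
    have := hs5.two_le
    omega
  have hd9 : 18 ∣ s9 - 1 := Dvd.dvd.trans ⟨f, by ring⟩ hb9
  have hd7 : 14 ∣ s7 - 1 := Dvd.dvd.trans ⟨f, by ring⟩ hb7
  have hd5 : 10 ∣ s5 - 1 := Dvd.dvd.trans ⟨f, by ring⟩ hb5
  have h54 : s5 ≠ s4 := by
    rintro rfl
    rw [ho5] at ho4
    omega
  obtain ⟨c, hc5, -, hcW⟩ := exists_c (n := 9) (k := 5) (l := 4) hF rfl (by norm_num) (by norm_num) (by norm_num)
    hs5 hs4 h54 ho5 ho4
  have ho5' : orderOf ((q ^ 2 : ℕ) : ZMod s5) = 5 := ord_sq_odd ho5 (by decide)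
  have ho4' : orderOf ((q ^ 2 : ℕ) : ZMod s4) = 2 := ord_sq_even ho4 (by decide)
  -- the residual class
  have hR : ∀ M : Subgroup (PSU 9 F q), IsCoatom M → InUnitaryResidualClass (pre M) →
      ¬ s7 ∣ Nat.card M ∧ (s9 ∣ Nat.card M → ¬ s5 ∣ Nat.card M) := by
    intro M hM hMr
    obtain ⟨P, hP, hcases⟩ := hres (pre M) (isMaximalIn_pre hM) hMr
    obtain ⟨S, hSn, hSs, hna, hC, ⟨e⟩⟩ := H264.FKS.exists_res_psu hF (by norm_num) hP
    rcases hcases with ⟨⟨e2⟩, -⟩ | ⟨hJ, -⟩ | hL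
    · have key : ∀ r : ℕ, r.Prime → 5 ≤ r → r ∣ Nat.card M → r = 5 ∨ r = 19 := fun r hr h5 h =>
        l219 hna (e.trans e2) hr h5 (dvd_or S hna hC hr h)
      refine ⟨fun h => ?_, fun _ h => ?_⟩
      · rcases key s7 hs7 (by omega) h with h1 | h1 <;> omega
      · rcases key s5 hs5 (by omega) h with h1 | h1 <;> omega
    · have hJ' : Spor.IsoJ3 S := by
        obtain ⟨K, i1, i2, ω, hK, hω, ⟨e3⟩⟩ := hJ
        exact ⟨K, i1, i2, ω, hK, hω, ⟨e.trans e3⟩⟩
      have key : ∀ r : ℕ, r.Prime → 5 ≤ r → r ∣ Nat.card M → r = 5 ∨ r = 17 ∨ r = 19 := fun r hr h5 h =>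
        j3 hJ' hr h5 (dvd_or S hna hC hr h)
      refine ⟨fun h => ?_, fun _ h => ?_⟩
      · rcases key s7 hs7 (by omega) h with h1 | h1 | h1 <;> omega
      · rcases key s5 hs5 (by omega) h with h1 | h1 | h1 <;> omega
    · obtain ⟨e2⟩ := hL
      refine ⟨fun h => ?_, fun h => ?_⟩
      · exact l3 hF hp hq hf hna (e.trans e2) hs7 ho7 (by decide) (by norm_num) hb7 (dvd_or S hna hC hs7 h)
      · exact (l3 hF hp hq hf hna (e.trans e2) hs9 ho9 (by decide) (by norm_num) hb9 (dvd_or S hna hC hs9 h)).elim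
  -- over `a`
  have hA : ∀ M : Subgroup (PSU 9 F q), IsCoatom M → s9 ∣ Nat.card M → ¬ s7 ∣ Nat.card M ∧ ¬ s5 ∣ Nat.card M := by
    intro M hM h9
    rcases geo_over_pre hF hp hq hf hs9 hi9 ho9 (by decide) (by norm_num) (by norm_num) (by omega) hM.1 h9 with
      ⟨W, hW0, -, hW, -⟩ | ⟨W, hW0, -, -, hW, -⟩ | ⟨r, K, hr, hro, hr9, -, hK, hle⟩ | h
    · exact absurd (Submodule.finrank_eq_zero.1 (by omega)) hW0
    · exact absurd (Submodule.finrank_eq_zero.1 (by omega)) hW0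
    · have hr3 : r = 3 := by
        have h1 : r ∣ 3 ^ 2 := hr9
        exact (Nat.prime_dvd_prime_iff_eq hr Nat.prime_three).1 (hr.dvd_of_dvd_pow h1)
      subst hr3
      refine ⟨fun h => ?_, fun h => ?_⟩
      · have h1 := (h.trans (card_dvd_pre M)).trans (Subgroup.card_dvd_of_le hle)
        have := (ext_dvd hF hs7 ho7 (by decide) (by norm_num) (by norm_num) (by omega) hr le_rfl hK h1).2.1
        omega
      · have h1 := (h.trans (card_dvd_pre M)).trans (Subgroup.card_dvd_of_le hle)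
        have := (ext_dvd hF hs5 ho5 (by decide) (by norm_num) (by norm_num) (by omega) hr le_rfl hK h1).2.1
        omega
    · exact ⟨(hR M hM h).1, (hR M hM h).2 h9⟩
  -- over `b`
  have hB : ∀ M : Subgroup (PSU 9 F q), IsCoatom M → s7 ∣ Nat.card M → Av c M := by
    intro M hM h7
    rcases geo_over_pre hF hp hq hf hs7 hi7 ho7 (by decide) (by norm_num) (by norm_num) (by omega) hM.1 h7 with
      ⟨W, hW0, -, hW, hle⟩ | ⟨W, hW0, hWn, -, hW, hle⟩ | ⟨r, K, hr, hro, hr9, hr7, hK, hle⟩ | h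
    · refine hcW M W hW0 ?_ (Or.inl ?_) hle
      · rw [ho5']; omega
      · rw [ho4']; omega
    · have hpos : 0 < finrank F W := by
        rw [Nat.pos_iff_ne_zero, Ne, Submodule.finrank_eq_zero]
        exact hW0
      refine hcW M W hW0 ?_ (Or.inr ⟨hWn, fun hd => ?_⟩) hle
      · rw [ho5']; omega
      · have := Nat.le_of_dvd hpos hd
        omega
    · exfalso
      have h1 : r ∣ 9 - 7 := Nat.dvd_sub hr9 hr7
      have h2 := (Nat.prime_dvd_prime_iff_eq hr Nat.prime_two).1 h1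
      subst h2
      exact absurd hro (by decide)
    · exact absurd h7 (hR M hM h).1
  -- the elements `a`, `b`
  have hfact9 : Fact s9.Prime := ⟨hs9⟩
  have hfact7 : Fact s7.Prime := ⟨hs7⟩
  obtain ⟨a, ha⟩ := exists_prime_orderOf_dvd_card' s9 (H149.PGU.dvd_card_psu hF (by norm_num) hs9 (by norm_num) le_rfl ho9)
  obtain ⟨b, hb⟩ := exists_prime_orderOf_dvd_card' s7
    (H149.PGU.dvd_card_psu hF (by norm_num : 2 ≤ 9) hs7 (by norm_num) (by norm_num) ho7)
  have hcA : ∀ M : Subgroup (PSU 9 F q), IsCoatom M → s9 ∣ Nat.card M → Av c M := fun M hM h =>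
    hc5 M (hA M hM h).2
  refine noTwo_of_coatom fun H K hH hK => ?_
  by_cases h1 : s9 ∣ Nat.card H
  · by_cases h2 : s7 ∣ Nat.card K
    · exact ⟨c, hcA H hH h1, hB K hK h2⟩
    · exact ⟨b, av_of_card (by rw [hb]; exact (hA H hH h1).1), av_of_card (by rw [hb]; exact h2)⟩
  · by_cases h2 : s9 ∣ Nat.card K
    · by_cases h3 : s7 ∣ Nat.card H
      · exact ⟨c, hB H hH h3, hcA K hK h2⟩
      · exact ⟨b, av_of_card (by rw [hb]; exact h3), av_of_card (by rw [hb]; exact (hA K hK h2).1)⟩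
    · exact ⟨a, av_of_card (by rw [ha]; exact h1), av_of_card (by rw [ha]; exact h2)⟩

end Cfsg.Agent.H729.CovSU9
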