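import Cfsg.Agent.H729.RealBase
import Cfsg.Agent.H729.PairHS
import Cfsg.Agent.Prune
set_option linter.all false
prune_inst 0x7f00000000000000000000000000000000000000000000000000000000000000000000000000000000000000000000000000000000000000000000000000000000000000000000000000000000000000003fffffffffffffffffffffffffffbeffbdffffffff
open scoped Cfsg.Agent.FastGrp

/-! # `RealOdd` for `HS` (S2248, helper729) -/

set_option autoImplicit false
set_option maxRecDepth 100000

namespace Cfsg.Agent.H729.RealHS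

open Subgroup Cfsg
open Cfsg.Agent.HN Cfsg.Agent.HN.Pres Cfsg.Agent.HN.HS100 Cfsg.Agent.HN.P1408 Cfsg.Agent.HN.H0Basic
open Cfsg.Agent.KFacts.HS Cfsg.Agent.KFacts.HS.DFour
open Cfsg.Agent.KFacts.HS.TwoB (g0 g0w g0_mem_K)
open Cfsg.Agent.H729.PairBase Cfsg.Agent.H729.PairHS Cfsg.Agent.H101.RO

section

variable {L : Type*} [Group L] (D : KFacts.HS.Mod L)

include D in
theorem hs_model : RealOdd L := by
  have hfin := D.finite
  refine RealBase.of_two (r := 7) (by norm_num) (by norm_num) (s := D.π ⟨hw g0w, g0w_mem⟩) (t := D.π ⟨hw tw, tw_mem⟩)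
    ?_ ?_ ?_ (noTwo D)
  · exact wB_sq D
  · rw [← map_mul, ← map_one D.π, pi_eq]
    show φ (hw tw * hw tw) = φ 1
    rw [← hw_append, ← hw_nil]
    exact eqt_spec (by decide +kernel)
  · have : Fact (Nat.Prime 7) := ⟨by norm_num⟩
    have hp : D.π ⟨hw g0w, g0w_mem⟩ * D.π ⟨hw tw, tw_mem⟩ = D.π (⟨hw g0w, g0w_mem⟩ * ⟨hw tw, tw_mem⟩) :=
      (map_mul _ _ _).symm
    refine orderOf_eq_prime ?_ ?_
    · rw [hp, ← map_pow, ← map_one D.π, pi_eq]
      show φ ((hw g0w * hw tw) ^ 7) = φ 1
      rw [← hw_append, ← hw_nil]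
      have e : hw (g0w ++ tw) ^ 7 = hw (pw ++ (pw ++ (pw ++ (pw ++ (pw ++ (pw ++ pw)))))) := by
        simp only [hw_append, pow_succ, pow_zero, one_mul, pw, mul_assoc]
      rw [e]
      exact eqt_spec (by decide +kernel)
    · intro h
      rw [hp, ← map_one D.π, pi_eq] at h
      have h1 : φ (hw (g0w ++ tw)) = φ (hw []) := by rw [hw_append, hw_nil]; exact h
      rw [φ_eq_iff, ← hw_τ, ← hw_append] at h1
      rcases h1 with h1 | h1
      · exact absurd (eqw_of_hw_eq (by decide) (by decide) h1) (by decide +kernel)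
      · exact absurd (eqw_of_hw_eq (by decide) (by decide) h1) (by decide +kernel)


end

theorem hs {K : Type*} [Group K] (h : Spor.IsoHS K) : RealOdd K := by
  obtain ⟨D⟩ := exists_mod h
  exact hs_model D

end Cfsg.Agent.H729.RealHS
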